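import Groth.Agent.SlicePt.QuasiSection
import Groth.Agent.SubtrLib.OpenPoint

/-!
# Finite quasi-sections through universally open neighbourhoods
-/

set_option autoImplicit false
set_option linter.style.haveILetI false
universe u
open CategoryTheory CategoryTheory.Limits AlgebraicGeometry TensorProduct PrimeSpectrum

namespace Groth.Agent.SlicePt

/-- A fibre algebra with a smallest point over the prime has a prime nilradical. -/
theorem isPrime_nilradical_fiber {R B : Type u} [CommRing R] [CommRing B] [Algebra R B] (p : Ideal R)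
    [p.IsPrime] (q₀ : PrimeSpectrum B) (h0 : q₀.asIdeal.comap (algebraMap R B) = p)
    (hle : ∀ q : PrimeSpectrum B, q.asIdeal.comap (algebraMap R B) = p → q₀ ≤ q) :
    (nilradical (p.Fiber B)).IsPrime := by
  let e := PrimeSpectrum.preimageOrderIsoFiber R B ⟨p, inferInstance⟩
  let z := e ⟨q₀, PrimeSpectrum.ext h0⟩
  have hz : ∀ y, z ≤ y := fun y => by
    have h : (⟨q₀, PrimeSpectrum.ext h0⟩ : PrimeSpectrum.comap (algebraMap R B) ⁻¹' {⟨p, inferInstance⟩}) ≤ e.symm y :=
      hle _ (congrArg PrimeSpectrum.asIdeal (e.symm y).2)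
    simpa [z] using e.monotone h
  have : nilradical (p.Fiber B) = z.asIdeal := le_antisymm (nilradical_le_prime _) fun x hx => by
    rw [nilradical_eq_sInf, Ideal.mem_sInf]
    exact fun {J} hJ => hz ⟨J, hJ⟩ hx
  rw [this]
  exact z.isPrime

/-- A nonempty fibre of a finite type algebra has an element whose nonvanishing cuts out one component. -/
theorem exists_irreducible_piece {R B : Type u} [CommRing R] [CommRing B] [Algebra R B]
    [Algebra.FiniteType R B] (p : Ideal R) [p.IsPrime] (q : PrimeSpectrum B)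
    (hq : q.asIdeal.comap (algebraMap R B) = p) :
    ∃ (b : B) (q₀ : PrimeSpectrum B), b ∉ q₀.asIdeal ∧ q₀.asIdeal.comap (algebraMap R B) = p ∧
      ∀ q' : PrimeSpectrum B, q'.asIdeal.comap (algebraMap R B) = p → b ∉ q'.asIdeal → q₀ ≤ q' := by
  classical
  let e := PrimeSpectrum.preimageOrderIsoFiber R B ⟨p, inferInstance⟩
  let F := p.Fiber B
  haveI : IsNoetherianRing F := Algebra.FiniteType.isNoetherianRing p.ResidueField F
  have hfin : (minimalPrimes F).Finite := minimalPrimes.finite_of_isNoetherianRing F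
  let img : PrimeSpectrum F → PrimeSpectrum B := fun y => (e.symm y).1
  obtain ⟨m, hm, -⟩ := Ideal.exists_minimalPrimes_le (bot_le : ⊥ ≤ (e ⟨q, PrimeSpectrum.ext hq⟩).asIdeal)
  haveI := hm.1.1
  let z : PrimeSpectrum F := ⟨m, hm.1.1⟩
  let M : Set (PrimeSpectrum B) := img '' {y | y.asIdeal ∈ minimalPrimes F ∧ y ≠ z}
  have hM : M.Finite := ((hfin.preimage fun a _ b _ h => PrimeSpectrum.ext h).subset fun y hy => hy.1).image _
  have hch : ∀ a ∈ M, ∃ x, x ∈ a.asIdeal ∧ x ∉ (img z).asIdeal := by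
    rintro _ ⟨y, ⟨hy, hyz⟩, rfl⟩
    refine SetLike.not_le_iff_exists.mp fun h => hyz ?_
    have h' : y ≤ z := by simpa using e.monotone (show e.symm y ≤ e.symm z from h)
    exact PrimeSpectrum.ext (le_antisymm h' (hm.2 ⟨hy.1.1, bot_le⟩ h'))
  choose x hx using hch
  refine ⟨∏ a ∈ hM.toFinset.attach, x a.1 (hM.mem_toFinset.mp a.2), img z, fun h => ?_,
    congrArg PrimeSpectrum.asIdeal (e.symm z).2, fun q' hq' hb => ?_⟩
  · obtain ⟨a, -, ha⟩ := Ideal.IsPrime.prod_mem_iff.mp h
    exact (hx a.1 _).2 ha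
  · obtain ⟨m', hm', hm'le⟩ :=
      Ideal.exists_minimalPrimes_le (bot_le : ⊥ ≤ (e ⟨q', PrimeSpectrum.ext hq'⟩).asIdeal)
    haveI := hm'.1.1
    let y : PrimeSpectrum F := ⟨m', hm'.1.1⟩
    have hyq : img y ≤ q' := by
      have := e.symm.monotone (show y ≤ e ⟨q', PrimeSpectrum.ext hq'⟩ from hm'le)
      rwa [e.symm_apply_apply] at this
    by_cases hyz : y = z
    · rwa [← hyz]
    · have hyM : img y ∈ M := ⟨y, ⟨hm', hyz⟩, rfl⟩
      exact (hb (hyq ((Ideal.mem_of_dvd _ (Finset.dvd_prod_of_mem _ (Finset.mem_attach _ ⟨img y, hM.mem_toFinset.mpr hyM⟩))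
        (hx _ hyM).1)))).elim

/-- Going down over valuation rings for universally open morphisms of spectra. -/
theorem exists_generization_of_universallyOpen {R B : Type u} [CommRing R] [CommRing B] [Algebra R B]
    [UniversallyOpen (Spec.map (CommRingCat.ofHom (algebraMap R B)))]
    (V : Type u) [CommRing V] [IsDomain V] [ValuationRing V] [Algebra R V]
    (Q : Ideal (V ⊗[R] B)) [Q.IsPrime]
    (hQ : Q.comap (algebraMap V (V ⊗[R] B)) = IsLocalRing.maximalIdeal V) :
    ∃ Q' : Ideal (V ⊗[R] B), Q'.IsPrime ∧ Q' ≤ Q ∧ Q'.comap (algebraMap V (V ⊗[R] B)) = ⊥ := by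
  let ψ := Spec.map (CommRingCat.ofHom (algebraMap V (V ⊗[R] B)))
  haveI : UniversallyOpen ψ := by
    rw [show ψ = (pullbackSpecIso R V B).inv ≫ pullback.fst _ _ from (pullbackSpecIso_inv_fst' R V B).symm]
    haveI : UniversallyOpen (pullback.fst (Spec.map (CommRingCat.ofHom (algebraMap R V)))
        (Spec.map (CommRingCat.ofHom (algebraMap R B)))) := inferInstance
    infer_instance
  refine SubtrLib.exists_prime_generic (V := V) Q fun r hr c hc h0 => ?_
  have hop := ψ.isOpenMap _ (PrimeSpectrum.basicOpen c).2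
  obtain ⟨y, hy, hy'⟩ := (IsLocalRing.specializes_closedPoint (⟨⊥, Ideal.isPrime_bot⟩ : PrimeSpectrum V)).mem_open hop
    ⟨⟨Q, inferInstance⟩, hc, PrimeSpectrum.ext hQ⟩
  refine hy ?_
  refine ((PrimeSpectrum.isPrime y).mem_or_mem (by rw [h0]; exact zero_mem _)).resolve_left fun hm => hr ?_
  have hm' : r ∈ (ψ y).asIdeal := hm
  rw [hy'] at hm'
  exact Ideal.mem_bot.mp hm'

/-- A point of a fibre which is the image of a point isolated in a quasi-finite fibre is closed. -/
theorem exists_closed_fibre_point {S X T : Scheme.{u}} (f : X ⟶ S) (q : T ⟶ S) [LocallyQuasiFinite q]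
    [LocallyOfFiniteType q] (h : T ⟶ X) (hh : h ≫ f = q) (s : S) [LocallyOfFiniteType f] (t₀ : T) (ht : q t₀ = s) :
    ∃ w : f.fiber s, IsClosed {w} ∧ f.fiberι s w = h t₀ := by
  let m : q.fiber s ⟶ f.fiber s := pullback.lift (q.fiberι s ≫ h) (q.fiberToSpecResidueField s)
    (by rw [Category.assoc, hh]; exact pullback.condition)
  haveI : LocallyOfFiniteType (m ≫ f.fiberToSpecResidueField s) := by
    rw [show m ≫ f.fiberToSpecResidueField s = q.fiberToSpecResidueField s from pullback.lift_snd _ _ _]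
    exact inferInstanceAs (LocallyOfFiniteType (pullback.snd q (S.fromSpecResidueField s)))
  haveI : LocallyOfFiniteType m := locallyOfFiniteType_of_comp m (f.fiberToSpecResidueField s)
  haveI : DiscreteTopology (q.fiber s) := by
    haveI := (q.isDiscrete_preimage_singleton s).1
    exact (q.fiberHomeo s).symm.discreteTopology
  obtain ⟨t, ht'⟩ : t₀ ∈ Set.range (q.fiberι s) := by rw [q.range_fiberι]; exact ht
  refine ⟨m t, m.closePoints_subset_preimage_closedPoints (isClosed_discrete {t}), ?_⟩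
  rw [← Scheme.Hom.comp_apply, show m ≫ f.fiberι s = q.fiberι s ≫ h from pullback.lift_fst _ _ _,
    Scheme.Hom.comp_apply, ht']

set_option backward.isDefEq.respectTransparency.types false in
/-- Finite quasi-sections over étale neighbourhoods, meeting a given universally open neighbourhood at a
single closed point of the fibre. -/
theorem exists_quasiSection_nhd {X S : Scheme.{u}} (f : X ⟶ S) [LocallyOfFinitePresentation f]
    (O : X.Opens) [UniversallyOpen (O.ι ≫ f)] (s : S) (hne : ((O : Set X) ∩ f.base ⁻¹' {s}).Nonempty) :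
    ∃ (S' S'' : Scheme.{u}) (w : S' ⟶ S) (π : S'' ⟶ S') (h : S'' ⟶ X), IsAffine S' ∧ Etale w ∧ IsFinite π ∧
      Surjective π ∧ LocallyOfFinitePresentation π ∧ h ≫ f = π ≫ w ∧
      ∃ (s₀ : S'') (x : f.fiber s), (π ≫ w).base ⁻¹' {s} = {s₀} ∧ h s₀ ∈ O ∧ IsClosed {x} ∧ f.fiberι s x = h s₀ := by
  classical
  obtain ⟨x, hxO, hxs⟩ := hne
  replace hxs : f x = s := hxs
  obtain ⟨V, hV, hsV, -⟩ := exists_isAffineOpen_mem_and_subset (x := s) (U := (⊤ : S.Opens)) trivial
  obtain ⟨W, hW, hxW, hWO⟩ := exists_isAffineOpen_mem_and_subset (x := x) (U := O ⊓ f ⁻¹ᵁ V)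
    ⟨hxO, by show f x ∈ V; rw [hxs]; exact hsV⟩
  have hWf : W ≤ f ⁻¹ᵁ V := fun y hy => (hWO hy).2
  let φ := f.appLE V W hWf
  have hφ : Spec.map φ ≫ hV.fromSpec = hW.fromSpec ≫ f :=
    IsAffineOpen.SpecMap_appLE_fromSpec f hV hW hWf
  have hfp : φ.hom.FinitePresentation :=
    HasRingHomProperty.appLE @LocallyOfFinitePresentation f ‹_› ⟨V, hV⟩ ⟨W, hW⟩ hWf
  haveI : UniversallyOpen (Spec.map φ) := by
    haveI : UniversallyOpen (Spec.map φ ≫ hV.fromSpec) := by
      have hr : Set.range hW.fromSpec ⊆ Set.range O.ι := by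
        rw [hW.range_fromSpec, O.range_ι]
        exact fun y hy => (hWO hy).1
      rw [hφ, ← IsOpenImmersion.lift_fac O.ι hW.fromSpec hr, Category.assoc]
      infer_instance
    exact MorphismProperty.of_postcomp (W := (@UniversallyOpen : MorphismProperty Scheme.{u}))
      (W' := (@IsOpenImmersion : MorphismProperty Scheme.{u}))
      (Spec.map φ) hV.fromSpec inferInstance ‹_›
  letI := φ.hom.toAlgebra
  let R := Γ(S, V)
  let B := Γ(X, W)
  haveI : Algebra.FinitePresentation R B := hfp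
  obtain ⟨p, hp⟩ : s ∈ Set.range hV.fromSpec := by rw [hV.range_fromSpec]; exact hsV
  haveI := PrimeSpectrum.isPrime p
  have hps : ∀ p' : Spec R, hV.fromSpec p' = s ↔ p' = p :=
    fun p' => ⟨fun h => hV.fromSpec.isOpenEmbedding.injective (h.trans hp.symm), fun h => h ▸ hp⟩
  obtain ⟨q, hq⟩ : x ∈ Set.range hW.fromSpec := by rw [hW.range_fromSpec]; exact hxW
  have hqp : q.asIdeal.comap (algebraMap R B) = p.asIdeal := congrArg PrimeSpectrum.asIdeal
    ((hps (Spec.map φ q)).mp (by rw [← Scheme.Hom.comp_apply, hφ, Scheme.Hom.comp_apply, hq, hxs]))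
  obtain ⟨b, q₀, hbq, hq₀, hmin⟩ := exists_irreducible_piece p.asIdeal q hqp
  let B₁ := Localization.Away b
  haveI : Algebra.FinitePresentation B B₁ := IsLocalization.Away.finitePresentation b
  haveI : Algebra.FinitePresentation R B₁ := Algebra.FinitePresentation.trans R B B₁
  obtain ⟨q₁, hq₁⟩ : q₀ ∈ Set.range (PrimeSpectrum.comap (algebraMap B B₁)) := by
    rw [PrimeSpectrum.localization_away_comap_range B₁ b]; exact hbq
  have hcomap : ∀ y : PrimeSpectrum B₁, y.asIdeal.comap (algebraMap R B₁) =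
      (PrimeSpectrum.comap (algebraMap B B₁) y).asIdeal.comap (algebraMap R B) := fun y => by
    rw [IsScalarTower.algebraMap_eq R B B₁, ← Ideal.comap_comap]; rfl
  have hdom : (nilradical (p.asIdeal.Fiber B₁)).IsPrime := by
    refine isPrime_nilradical_fiber p.asIdeal q₁ (by rw [hcomap, hq₁, hq₀]) fun y hy => ?_
    have hby : b ∉ (PrimeSpectrum.comap (algebraMap B B₁) y).asIdeal := by
      have : PrimeSpectrum.comap (algebraMap B B₁) y ∈ (PrimeSpectrum.basicOpen b : Set _) := by
        rw [← PrimeSpectrum.localization_away_comap_range B₁ b]; exact ⟨y, rfl⟩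
      exact this
    have h : q₁.asIdeal.comap (algebraMap B B₁) ≤ y.asIdeal.comap (algebraMap B B₁) := by
      rw [← PrimeSpectrum.comap_asIdeal, hq₁]
      exact hmin _ ((hcomap y).symm.trans hy) hby
    have h' := Ideal.map_mono (f := algebraMap B B₁) h
    rwa [IsLocalization.map_comap (Submonoid.powers b) B₁, IsLocalization.map_comap (Submonoid.powers b) B₁] at h'
  let ι₁ : Spec (CommRingCat.of B₁) ⟶ Spec (CommRingCat.of B) := Spec.map (CommRingCat.ofHom (algebraMap B B₁))
  haveI : IsOpenImmersion ι₁ := IsOpenImmersion.of_isLocalization b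
  haveI : UniversallyOpen (Spec.map (CommRingCat.ofHom (algebraMap R B₁))) := by
    rw [show Spec.map (CommRingCat.ofHom (algebraMap R B₁)) = ι₁ ≫ Spec.map φ by
      rw [← Spec.map_comp]
      rfl]
    infer_instance
  obtain ⟨R', _, _, B', _, _, hh, hR', hfin, hfp', hsurj, hcomp, b₀, hb₀⟩ :=
    exists_quasiSection (R := R) (B := B₁) p.asIdeal hdom
      (fun V _ _ _ _ _ Q hQ hQm => by haveI := hQ; exact exists_generization_of_universallyOpen V Q hQm)
  haveI := hR'
  haveI := hfin
  haveI := hfp'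
  let w₀ : Spec (CommRingCat.of R') ⟶ Spec R := Spec.map (CommRingCat.ofHom (algebraMap R R'))
  let π : Spec (CommRingCat.of B') ⟶ Spec (CommRingCat.of R') := Spec.map (CommRingCat.ofHom (algebraMap R' B'))
  haveI : Etale w₀ := (HasRingHomProperty.Spec_iff (P := @Etale)).mpr (RingHom.etale_algebraMap.mpr hR')
  haveI : IsFinite π := (IsFinite.SpecMap_iff _).mpr (RingHom.finite_algebraMap.mpr hfin)
  haveI : LocallyOfFinitePresentation π :=
    (HasRingHomProperty.Spec_iff (P := @LocallyOfFinitePresentation)).mpr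
      (RingHom.finitePresentation_algebraMap.mpr hfp')
  haveI : Surjective π := ⟨hsurj⟩
  let h : Spec (CommRingCat.of B') ⟶ X := Spec.map (CommRingCat.ofHom hh) ≫ ι₁ ≫ hW.fromSpec
  have e1 : Spec.map (CommRingCat.ofHom hh) ≫ ι₁ ≫ Spec.map φ = π ≫ w₀ := by
    simp only [ι₁, π, w₀, ← Spec.map_comp]
    congr 1
    refine CommRingCat.hom_ext (RingHom.ext fun r => ?_)
    show hh (algebraMap B B₁ (algebraMap R B r)) = algebraMap R' B' (algebraMap R R' r)
    rw [← IsScalarTower.algebraMap_apply]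
    exact RingHom.congr_fun hcomp r
  have hw : h ≫ f = π ≫ w₀ ≫ hV.fromSpec := by
    simp only [h, Category.assoc, ← hφ]
    rw [← reassoc_of% e1]
  have hfib : ∀ y : Spec (CommRingCat.of B'), (π ≫ w₀ ≫ hV.fromSpec) y = s ↔ y = b₀ := fun y => by
    refine ((hps (w₀ (π y))).trans ?_).trans (hb₀ y)
    exact ⟨fun h => by rw [← Ideal.comap_comap]; exact congrArg PrimeSpectrum.asIdeal h,
      fun h => PrimeSpectrum.ext (by rw [← Ideal.comap_comap] at h; exact h)⟩
  haveI : LocallyQuasiFinite w₀ :=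
    (HasRingHomProperty.Spec_iff (P := @LocallyQuasiFinite)).mpr (RingHom.quasiFinite_algebraMap.mpr
      Algebra.IsUnramifiedAt.instQuasiFiniteOfEssFiniteTypeOfFormallyUnramified)
  obtain ⟨gm, hgc, hg⟩ := exists_closed_fibre_point f (π ≫ w₀ ≫ hV.fromSpec) h hw s b₀ ((hfib b₀).mpr rfl)
  refine ⟨_, _, w₀ ≫ hV.fromSpec, π, h, inferInstance, inferInstance, inferInstance, inferInstance, inferInstance,
    hw, b₀, gm, Set.ext fun y => hfib y, ?_, hgc, hg⟩
  refine (hWO ?_).1
  exact hW.range_fromSpec.subset ⟨ι₁ (Spec.map (CommRingCat.ofHom hh) b₀), rfl⟩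

end Groth.Agent.SlicePt
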