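import Groth.Agent.SlicePt.Through
import Groth.Agent.SlicePt.Nhd
import Groth.Agent.Unibranch.FibreChains
import Groth.Prelude.Def_EGA43

/-!
# Quasi-sections through a given closed point of a fibre

At a closed point of a fibre lying on a component of top local dimension at whose generic point the
morphism is universally open, a quasi-section passes without residue field extension.
-/

set_option autoImplicit false
set_option linter.style.haveILetI false
universe u
open CategoryTheory CategoryTheory.Limits AlgebraicGeometry TensorProduct PrimeSpectrum Topology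
open Groth.Agent.Unibranch (HasChain ChainsLE IsChain')

namespace Groth.Agent.SlicePt

/-- A slice through a closed point of the fibre and its quasi-section. -/
theorem exists_quasiSection_through {R B : Type u} [CommRing R] [CommRing B] [Algebra R B] (p : Ideal R)
    [p.IsPrime] [Algebra.FinitePresentation R B] (q q₀ : PrimeSpectrum B)
    (hqp : q.asIdeal.comap (algebraMap R B) = p) (hq₀p : q₀.asIdeal.comap (algebraMap R B) = p) (hle : q₀ ≤ q)
    (hmax : ∀ q' : PrimeSpectrum B, q'.asIdeal.comap (algebraMap R B) = p → q ≤ q' → q' = q)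
    (hchain : ∀ l : LTSeries (PrimeSpectrum B), (∀ i, (l i).asIdeal.comap (algebraMap R B) = p ∧ l i ≤ q) →
      ∃ l' : LTSeries (PrimeSpectrum B), (∀ i, (l' i).asIdeal.comap (algebraMap R B) = p ∧ q₀ ≤ l' i) ∧
        l.length ≤ l'.length)
    (hgo : ∀ (V : Type u) [CommRing V] [IsDomain V] [ValuationRing V] [Algebra R V],
      (IsLocalRing.maximalIdeal V).comap (algebraMap R V) = p →
      ∀ Q : Ideal (V ⊗[R] B), Q.IsPrime → Q.comap (algebraMap V (V ⊗[R] B)) = IsLocalRing.maximalIdeal V →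
        Q.comap (Algebra.TensorProduct.includeRight : B →ₐ[R] V ⊗[R] B).toRingHom = q₀.asIdeal →
        ∃ Q' : Ideal (V ⊗[R] B), Q'.IsPrime ∧ Q' ≤ Q ∧ Q'.comap (algebraMap V (V ⊗[R] B)) = ⊥) :
    ∃ (R' : Type u) (_ : CommRing R') (_ : Algebra R R') (B' : Type u) (_ : CommRing B') (_ : Algebra R' B')
      (h : B →+* B'), Algebra.Etale R R' ∧ Module.Finite R' B' ∧ Algebra.FinitePresentation R' B' ∧
      Function.Surjective (PrimeSpectrum.comap (algebraMap R' B')) ∧
      h.comp (algebraMap R B) = (algebraMap R' B').comp (algebraMap R R') ∧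
      ∃ (b : PrimeSpectrum B') (hb : q.asIdeal = b.asIdeal.comap h),
        Function.Surjective (Ideal.ResidueField.map q.asIdeal b.asIdeal h hb) ∧
        ∀ b' : PrimeSpectrum B',
        b'.asIdeal.comap ((algebraMap R' B').comp (algebraMap R R')) = p ↔ b' = b := by
  classical
  let F := p.Fiber B
  haveI : IsNoetherianRing F := Algebra.FiniteType.isNoetherianRing p.ResidueField F
  obtain ⟨M, hM, hMq⟩ := exists_toFib_eq p q.asIdeal hqp
  obtain ⟨Q₀, hQ₀, hQ₀q⟩ := exists_toFib_eq p q₀.asIdeal hq₀p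
  haveI := hM
  haveI := hQ₀
  haveI : M.IsMaximal := by
    obtain ⟨N, hN, hMN⟩ := Ideal.exists_le_maximal M hM.ne_top
    haveI := hN
    have h1 : (⟨N.comap (toFib p), inferInstance⟩ : PrimeSpectrum B) = q := hmax _ (comap_toFib p N)
      (show q.asIdeal ≤ N.comap (toFib p) from hMq ▸ Ideal.comap_mono hMN)
    have h2 : N = M := le_antisymm (le_of_comap_toFib p (le_of_eq ((congrArg PrimeSpectrum.asIdeal h1).trans hMq.symm))) hMN
    exact h2 ▸ hN
  have hQM : Q₀ ≤ M := le_of_comap_toFib p (hQ₀q.le.trans (le_trans (show q₀.asIdeal ≤ q.asIdeal from hle) hMq.ge))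
  obtain ⟨s, hs, hscard⟩ := M.exists_finset_card_eq_height_of_isNoetherianRing
  let n := s.card
  -- scale the system of parameters into `B`
  choose r hr b hb using fun i : Fin n => Ideal.Fiber.exists_smul_eq_one_tmul p ((s.equivFin.symm i : F))
  have hspan : Ideal.span (Set.range fun i => toFib p (b i)) = Ideal.span (s : Set F) := by
    have hunit : ∀ i, IsUnit (algebraMap R F (r i)) := fun i => by
      rw [IsScalarTower.algebraMap_apply R p.ResidueField F]
      exact (Ne.isUnit fun h => hr i ((Ideal.algebraMap_residueField_eq_zero).mp h)).map _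
    refine le_antisymm (Ideal.span_le.mpr ?_) (Ideal.span_le.mpr fun x hx => ?_)
    · rintro _ ⟨i, rfl⟩
      show (1 : p.ResidueField) ⊗ₜ[R] b i ∈ Ideal.span (s : Set F)
      rw [← hb i, Algebra.smul_def]
      exact Ideal.mul_mem_left _ _ (Ideal.subset_span (s.equivFin.symm i).2)
    · have hx' : x = ((s.equivFin.symm (s.equivFin ⟨x, hx⟩) : s) : F) := by rw [Equiv.symm_apply_apply]
      rw [hx']
      have : algebraMap R F (r (s.equivFin ⟨x, hx⟩)) * ((s.equivFin.symm (s.equivFin ⟨x, hx⟩) : s) : F) ∈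
          Ideal.span (Set.range fun i => toFib p (b i)) := by
        rw [← Algebra.smul_def, hb]
        exact Ideal.subset_span ⟨_, rfl⟩
      exact (Ideal.unit_mul_mem_iff_mem _ (hunit _)).mp this
  have hmin : M ∈ (Ideal.span (Set.range fun i => toFib p (b i))).minimalPrimes := hspan ▸ hs
  have hbq : ∀ i, b i ∈ q.asIdeal := fun i => by
    rw [← hMq]
    exact hmin.1.2 (Ideal.subset_span ⟨i, rfl⟩)
  have hn : (n : WithBot ℕ∞) ≤ ringKrullDim (F ⧸ Q₀) := by
    obtain ⟨l, hlast, hlen⟩ := M.exists_ltSeries_length_eq_height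
    let e := PrimeSpectrum.preimageOrderIsoFiber R B ⟨p, inferInstance⟩
    let lB : LTSeries (PrimeSpectrum B) := l.map (fun y => (e.symm y).1) fun a c h => e.symm.strictMono h
    obtain ⟨l', hl', hlen'⟩ := hchain lB fun i => ⟨congrArg PrimeSpectrum.asIdeal (e.symm (l i)).2, by
      have : l i ≤ (⟨M, hM⟩ : PrimeSpectrum F) := by
        rw [← hlast]; exact l.monotone (Fin.le_last i)
      show ((l i).asIdeal.comap (toFib p)) ≤ q.asIdeal
      rw [← hMq]
      exact Ideal.comap_mono this⟩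
    let lF : LTSeries (PrimeSpectrum F) :=
      ⟨l'.length, fun i => e ⟨l' i, PrimeSpectrum.ext (hl' i).1⟩, fun i => e.strictMono (l'.step i)⟩
    have hQl : ∀ i, Q₀ ≤ (lF i).asIdeal := fun i => by
      refine le_of_comap_toFib p ?_
      rw [hQ₀q]
      have : ((lF i).asIdeal.comap (toFib p)) = (l' i).asIdeal :=
        congrArg (fun y => y.1.asIdeal) (e.symm_apply_apply ⟨l' i, PrimeSpectrum.ext (hl' i).1⟩)
      rw [this]
      exact (hl' i).2
    let lQ : LTSeries (PrimeSpectrum (F ⧸ Q₀)) :=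
      ⟨l'.length, fun i => ⟨(lF i).asIdeal.map (Ideal.Quotient.mk Q₀),
        Ideal.map_isPrime_of_surjective Ideal.Quotient.mk_surjective (by rw [Ideal.mk_ker]; exact hQl i)⟩,
        fun i => by
          have hc : ∀ j, ((lF j).asIdeal.map (Ideal.Quotient.mk Q₀)).comap (Ideal.Quotient.mk Q₀) = (lF j).asIdeal := fun j => by
            rw [Ideal.comap_map_of_surjective _ Ideal.Quotient.mk_surjective, ← RingHom.ker_eq_comap_bot,
              Ideal.mk_ker, sup_eq_left.mpr (hQl j)]
          refine lt_of_le_of_ne (Ideal.map_mono (show (lF i.castSucc).asIdeal ≤ _ from (lF.step i).le)) fun heq => ?_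
          refine (lF.step i).ne (PrimeSpectrum.ext ?_)
          rw [← hc, ← hc (i.succ)]
          exact congrArg (fun y => Ideal.comap (Ideal.Quotient.mk Q₀) y) heq⟩
    have h1 : (l.length : WithBot ℕ∞) ≤ (l'.length : WithBot ℕ∞) := by exact_mod_cast hlen'
    have h2 : ((n : ℕ∞)) = (l.length : ℕ∞) := hscard.trans hlen.symm
    have h3 : (n : WithBot ℕ∞) = (l.length : WithBot ℕ∞) := by
      have := congrArg (fun a : ℕ∞ => (a : WithBot ℕ∞)) h2
      exact_mod_cast this
    rw [h3]
    exact h1.trans (Order.LTSeries.length_le_krullDim lQ)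
  refine exists_quasiSection_of_slice p q hqp b hbq (fun qD hqD => ?_) (fun V _ _ _ _ hV Q hQ hQm hQq => ?_)
  · let J : Ideal B := Ideal.span (Set.range b)
    refine quasiFiniteAt_of_min_max qD fun D' hD' hor => ?_
    let q' : PrimeSpectrum B := PrimeSpectrum.comap (Ideal.Quotient.mk J) D'
    have hq'p : q'.asIdeal.comap (algebraMap R B) = p := by
      rw [← hqp, ← hqD]
      simpa [q', Ideal.comap_comap] using hD'
    have hmono : ∀ {a c : PrimeSpectrum (B ⧸ J)}, a ≤ c →
        a.asIdeal.comap (Ideal.Quotient.mk J) ≤ c.asIdeal.comap (Ideal.Quotient.mk J) := fun h => Ideal.comap_mono h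
    have heq : q' = q := by
      rcases hor with h | h
      · obtain ⟨J', hJ', hJ'q⟩ := exists_toFib_eq p q'.asIdeal hq'p
        haveI := hJ'
        have hJ'M : J' ≤ M := le_of_comap_toFib p (by rw [hJ'q, hMq, ← hqD]; exact hmono h)
        have hb' : Ideal.span (Set.range fun i => toFib p (b i)) ≤ J' := by
          refine Ideal.span_le.mpr ?_
          rintro _ ⟨i, rfl⟩
          have : b i ∈ J'.comap (toFib p) := by
            rw [hJ'q]
            show Ideal.Quotient.mk J (b i) ∈ D'.asIdeal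
            rw [Ideal.Quotient.eq_zero_iff_mem.mpr (Ideal.subset_span (Set.mem_range_self i))]
            exact zero_mem _
          exact this
        have := le_antisymm hJ'M (hmin.2 ⟨hJ', hb'⟩ hJ'M)
        exact PrimeSpectrum.ext (by rw [← hJ'q, this, hMq])
      · exact hmax q' hq'p (by
          show q.asIdeal ≤ q'.asIdeal
          rw [← hqD]
          exact hmono h)
    refine PrimeSpectrum.ext (Ideal.comap_injective_of_surjective _ Ideal.Quotient.mk_surjective ?_)
    exact (congrArg PrimeSpectrum.asIdeal heq).trans hqD.symm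
  · haveI := hQ
    exact exists_lift_through p Q₀ M hQM b hmin hn V hV
      (fun Q' hQ' hQ'm hQ'q => hgo V hV Q' hQ' hQ'm (by rw [hQ'q, hQ₀q])) Q hQm (by rw [hQq, hMq])

/-- Universal openness at a point gives generisations over valuation rings in affine charts. -/
theorem exists_generization_of_univOpenAt {X S : Scheme.{u}} (f : X ⟶ S) {z : X}
    (hz : EGA43.IsUnivOpenAt f z) {A : S.Opens} {W : X.Opens} (hA : IsAffineOpen A) (hW : IsAffineOpen W)
    (e : W ≤ f ⁻¹ᵁ A) :
    letI := (f.appLE A W e).hom.toAlgebra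
    ∀ (q₀ : PrimeSpectrum Γ(X, W)), hW.fromSpec q₀ = z →
      ∀ (V : Type u) [CommRing V] [IsDomain V] [ValuationRing V] [Algebra Γ(S, A) V]
        (Q : Ideal (V ⊗[Γ(S, A)] Γ(X, W))) [Q.IsPrime],
        Q.comap (algebraMap V _) = IsLocalRing.maximalIdeal V →
        Q.comap (Algebra.TensorProduct.includeRight : Γ(X, W) →ₐ[Γ(S, A)] _).toRingHom = q₀.asIdeal →
        ∃ Q' : Ideal (V ⊗[Γ(S, A)] Γ(X, W)), Q'.IsPrime ∧ Q' ≤ Q ∧ Q'.comap (algebraMap V _) = ⊥ := by
  letI := (f.appLE A W e).hom.toAlgebra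
  intro q₀ hq₀ V _ _ _ _ Q _ hQm hQq
  let φ := Spec.map (CommRingCat.ofHom (algebraMap Γ(S, A) Γ(X, W)))
  let gV := Spec.map (CommRingCat.ofHom (algebraMap Γ(S, A) V))
  let g := gV ≫ hA.fromSpec
  have hφ : φ ≫ hA.fromSpec = hW.fromSpec ≫ f := IsAffineOpen.SpecMap_appLE_fromSpec f hA hW e
  let Θ : Spec (CommRingCat.of (V ⊗[Γ(S, A)] Γ(X, W))) ⟶ pullback f g :=
    (pullbackSpecIso Γ(S, A) V Γ(X, W)).inv ≫ (pullbackSymmetry gV φ).hom ≫
      pullback.map φ gV f g hW.fromSpec (𝟙 _) hA.fromSpec hφ (Category.id_comp _).symm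
  haveI : IsOpenImmersion Θ := inferInstance
  have hfst : Θ ≫ pullback.fst f g = Spec.map (CommRingCat.ofHom
      (Algebra.TensorProduct.includeRight : Γ(X, W) →ₐ[Γ(S, A)] V ⊗[Γ(S, A)] Γ(X, W)).toRingHom) ≫ hW.fromSpec := by
    simp only [Θ, Category.assoc, pullback.lift_fst, pullbackSymmetry_hom_comp_fst_assoc]
    rw [← Category.assoc, pullbackSpecIso_inv_snd]
    rfl
  have hsnd : Θ ≫ pullback.snd f g = Spec.map (CommRingCat.ofHom (algebraMap V (V ⊗[Γ(S, A)] Γ(X, W)))) := by
    simp only [Θ, Category.assoc, pullback.lift_snd, pullbackSymmetry_hom_comp_snd_assoc, Category.comp_id]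
    rw [pullbackSymmetry_hom_comp_snd]
    exact pullbackSpecIso_inv_fst' Γ(S, A) V Γ(X, W)
  refine SubtrLib.exists_prime_generic (V := V) Q fun r hr c hc h0 => ?_
  let xQ : Spec (CommRingCat.of (V ⊗[Γ(S, A)] Γ(X, W))) := ⟨Q, inferInstance⟩
  have hx' : (pullback.fst f g).base (Θ xQ) = z := by
    rw [← hq₀]
    refine ((Scheme.Hom.comp_apply Θ _ xQ).symm.trans (congr($(hfst) xQ))).trans ?_
    exact congrArg hW.fromSpec.base (PrimeSpectrum.ext hQq)
  have hD : IsOpen (Θ '' (PrimeSpectrum.basicOpen c : Set (PrimeSpectrum (V ⊗[Γ(S, A)] Γ(X, W))))) :=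
    Θ.isOpenEmbedding.isOpenMap (PrimeSpectrum.basicOpen c : Set (PrimeSpectrum (V ⊗[Γ(S, A)] Γ(X, W))))
      (PrimeSpectrum.basicOpen c).2
  have hn := hz _ g (Θ xQ) hx' _ (hD.mem_nhds ⟨xQ, hc, rfl⟩)
  obtain ⟨N, hN, hNo, hcl⟩ := mem_nhds_iff.mp hn
  have hcl' : (IsLocalRing.closedPoint V : Spec (CommRingCat.of V)) ∈ N := by
    have : (pullback.snd f g).base (Θ xQ) = IsLocalRing.closedPoint V :=
      ((Scheme.Hom.comp_apply Θ _ xQ).symm.trans (congr($(hsnd) xQ))).trans (PrimeSpectrum.ext hQm)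
    rwa [this] at hcl
  obtain ⟨_, ⟨y, hy, rfl⟩, hy'⟩ := hN
    ((IsLocalRing.specializes_closedPoint (⟨⊥, Ideal.isPrime_bot⟩ : PrimeSpectrum V)).mem_open hNo hcl')
  have hy2 : Ideal.comap (algebraMap V (V ⊗[Γ(S, A)] Γ(X, W))) y.asIdeal = ⊥ :=
    congrArg PrimeSpectrum.asIdeal (((congr($(hsnd) y)).symm.trans (Scheme.Hom.comp_apply Θ _ y)).trans hy')
  refine hy ?_
  refine ((PrimeSpectrum.isPrime y).mem_or_mem (by rw [h0]; exact zero_mem _)).resolve_left fun hm => hr ?_
  exact Ideal.mem_bot.mp (hy2.le hm)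

end Groth.Agent.SlicePt

namespace Groth.Agent.SlicePt

/-- A morphism of spectra with surjective residue field map induces an isomorphism of residue fields. -/
theorem isIso_residueFieldMap_specMap {R S : CommRingCat.{u}} (φ : R ⟶ S) (b : PrimeSpectrum S) (q : PrimeSpectrum R)
    (hb : q.asIdeal = b.asIdeal.comap φ.hom)
    (hsurj : Function.Surjective (Ideal.ResidueField.map q.asIdeal b.asIdeal φ.hom hb)) :
    IsIso ((Spec.map φ).residueFieldMap b) := by
  obtain rfl : q = PrimeSpectrum.comap φ.hom b := PrimeSpectrum.ext hb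
  let q₀ : PrimeSpectrum R := PrimeSpectrum.comap φ.hom b
  let jm := CommRingCat.ofHom (Ideal.ResidueField.map q₀.asIdeal b.asIdeal φ.hom hb)
  haveI : IsIso jm := (ConcreteCategory.isIso_iff_bijective jm).mpr
    ⟨(Ideal.ResidueField.map q₀.asIdeal b.asIdeal φ.hom hb).injective, hsurj⟩
  have key : (Spec.map φ).residueFieldMap b =
      (Scheme.Spec.residueFieldIso R q₀).hom ≫ jm ≫ (Scheme.Spec.residueFieldIso S b).inv := by
    have hS := Scheme.Spec.map_residueFieldIso_inv_eq_fromSpecResidueField (R := S) b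
    have hR := Scheme.Spec.map_residueFieldIso_inv_eq_fromSpecResidueField (R := R) q₀
    have hcomp : CommRingCat.ofHom (algebraMap R q₀.asIdeal.ResidueField) ≫ jm =
        φ ≫ CommRingCat.ofHom (algebraMap S b.asIdeal.ResidueField) :=
      CommRingCat.hom_ext (RingHom.ext fun r => Ideal.ResidueField.map_algebraMap _ _ _ hb r)
    have h1 : CommRingCat.ofHom (algebraMap R q₀.asIdeal.ResidueField) ≫
        ((Scheme.Spec.residueFieldIso R q₀).inv ≫ (Spec.map φ).residueFieldMap b) =
        CommRingCat.ofHom (algebraMap R q₀.asIdeal.ResidueField) ≫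
          (jm ≫ (Scheme.Spec.residueFieldIso S b).inv) := by
      apply Spec.map_injective
      refine ((Spec.map_comp _ _).trans (congrArg (· ≫ _) (Spec.map_comp _ _))).trans ?_
      refine ((Category.assoc _ _ _).trans (congrArg (Spec.map ((Spec.map φ).residueFieldMap b) ≫ ·) hR)).trans ?_
      refine (Scheme.Hom.SpecMap_residueFieldMap_fromSpecResidueField (Spec.map φ) b).trans ?_
      refine ((congrArg (· ≫ Spec.map φ) hS).symm.trans (Category.assoc _ _ _)).trans ?_
      rw [← Category.assoc (CommRingCat.ofHom (algebraMap R q₀.asIdeal.ResidueField)), hcomp, Spec.map_comp,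
        Spec.map_comp]
    refine (Iso.inv_comp_eq (Scheme.Spec.residueFieldIso R q₀)).mp ?_
    refine CommRingCat.hom_ext ?_
    exact Ideal.ResidueField.ringHom_ext (congrArg CommRingCat.Hom.hom h1)
  rw [key]
  haveI h2 : IsIso (jm ≫ (Scheme.Spec.residueFieldIso S b).inv) :=
    @IsIso.comp_isIso _ _ _ _ _ _ _ inferInstance (Iso.isIso_inv (Scheme.Spec.residueFieldIso S b))
  exact @IsIso.comp_isIso _ _ _ _ _ _ _ (Iso.isIso_hom (Scheme.Spec.residueFieldIso R q₀)) h2

/-- Chains below a point of a chart are bounded by the local dimension of the fibre. -/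
theorem natCast_le_localDim {X S : Scheme.{u}} (f : X ⟶ S) (s : S) (x : ↥(f.base ⁻¹' {s})) {k : ℕ}
    (c : Fin (k + 1) → X) (hc : IsChain' c) (hcs : ∀ i, f (c i) = s) (hcx : ∀ i, c i ⤳ x.1) :
    (k : WithBot ℕ∞) ≤ FlatMor.localDim ↥(f.base ⁻¹' {s}) x := by
  haveI : QuasiSober ↥(f.base ⁻¹' {s}) := (f.fiberHomeo s).symm.isOpenEmbedding.quasiSober
  refine (Unibranch.natCast_le_localDim_iff f (S := Set.univ) (y := s) IsEmbedding.subtypeVal
    (by rw [Subtype.range_coe, Set.univ_inter]) rfl).mpr fun U hU => ?_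
  exact ⟨c, fun i => ⟨⟨(hcx i).mem_open U.2 hU, trivial⟩, hcs i⟩, hc⟩

/-- The dimension of a component of a fibre is attained in every chart at its generic point. -/
theorem exists_hasChain_component {X S : Scheme.{u}} (f : X ⟶ S) [LocallyOfFiniteType f] (s : S)
    (Z : Set ↥(f.base ⁻¹' {s})) (hZ : IsClosed Z) (z : X) (hz : z ∈ Subtype.val '' Z)
    (hZz : Subtype.val '' Z ⊆ closure {z}) {A : S.Opens} {W : X.Opens} (hA : IsAffineOpen A) (hW : IsAffineOpen W)
    (e : W ≤ f ⁻¹ᵁ A) (hzW : z ∈ W) {k : ℕ} (hk : (k : WithBot ℕ∞) ≤ topologicalKrullDim ↥Z) :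
    HasChain f ((W : Set X) ∩ closure {z}) s k := by
  have hzs : f z = s := by obtain ⟨w, -, rfl⟩ := hz; exact w.2
  haveI : QuasiSober ↥(f.base ⁻¹' {s}) := (f.fiberHomeo s).symm.isOpenEmbedding.quasiSober
  haveI : QuasiSober ↥Z := hZ.isClosedEmbedding_subtypeVal.quasiSober
  have hr : Set.range (fun w : ↥Z => w.1.1) = closure {z} ∩ f ⁻¹' {s} := by
    ext v
    constructor
    · rintro ⟨w, rfl⟩; exact ⟨hZz ⟨w.1, w.2, rfl⟩, w.1.2⟩
    · rintro ⟨hv, hvs⟩
      obtain ⟨w, hw, rfl⟩ := hz
      have : (⟨v, hvs⟩ : ↥(f.base ⁻¹' {s})) ∈ closure ({w} : Set _) := by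
        rw [IsEmbedding.subtypeVal.isInducing.closure_eq_preimage_closure_image, Set.image_singleton]
        exact hv
      exact ⟨⟨⟨v, hvs⟩, hZ.closure_subset_iff.mpr (Set.singleton_subset_iff.mpr hw) this⟩, rfl⟩
  obtain ⟨c, hc, hcc⟩ := (Unibranch.natCast_le_topologicalKrullDim_iff f
    (IsEmbedding.subtypeVal.comp IsEmbedding.subtypeVal) hr).mp hk
  subst hzs
  have hle := Unibranch.chainsLE_of_specializes f specializes_rfl hzW (Unibranch.chainsLE_rdimIn hA hW e hzW)
  exact (Unibranch.hasChain_rdimIn hA hW e hzW).anti (hle k c hc hcc)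

end Groth.Agent.SlicePt
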