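import Groth.Agent.GrpAct.TranslateFibre

/-!
# Translating finitely many points of a fibre into a dense open set

For a transitive action the group elements moving a given finite set of a fibre into an open set which is
dense in that fibre contain, at the closed points of the fibre, a nonempty open set.
-/

set_option autoImplicit false
set_option linter.style.haveILetI false
universe u
open CategoryTheory CategoryTheory.Limits MonoidalCategory CartesianMonoidalCategory MonObj AlgebraicGeometry
open Groth.Agent.GrpComp Groth.Agent.GrpAct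

namespace Groth.Agent.SlicePt

variable {S : Scheme.{u}}

/-- A field-valued point factors through the residue field of its image. -/
theorem exists_fac_residue {Z : Scheme.{u}} {K : Type u} [Field K] (q : Spec (CommRingCat.of K) ⟶ Z)
    (t : Spec (CommRingCat.of K)) {z : Z} (hq : q t = z) : ∃ d, d ≫ Z.fromSpecResidueField z = q := by
  have ht : t = IsLocalRing.closedPoint K := Subsingleton.elim (α := PrimeSpectrum K) _ _
  subst ht hq
  exact ⟨_, Scheme.descResidueField_stalkClosedPointTo_fromSpecResidueField K _ q⟩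

/-- The points of a product of fibres over a closed point of one factor form a finite cover of the other
fibre. -/
theorem exists_pt_map {X Y : Scheme.{u}} (f : X ⟶ S) (g : Y ⟶ S) (s : S)
    [LocallyOfFiniteType (g.fiberToSpecResidueField s)] (z : g.fiber s) (hz : IsClosed {z}) :
    ∃ (P : Scheme.{u}) (p : P ⟶ f.fiber s) (j : P ⟶ pullback f g), IsFinite p ∧
      j ≫ pullback.fst f g = p ≫ f.fiberι s ∧ (∀ y, pullback.snd f g (j y) = g.fiberι s z) ∧
      ∀ o, f (pullback.fst f g o) = s → pullback.snd f g o = g.fiberι s z → ∃ y, j y = o := by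
  haveI : JacobsonSpace (g.fiber s) := LocallyOfFiniteType.jacobsonSpace (g.fiberToSpecResidueField s)
  haveI := isClosed_singleton_iff_isClosedImmersion.mp hz
  let c₀ := (g.fiber s).fromSpecResidueField z ≫ g.fiberToSpecResidueField s
  haveI : IsFinite c₀ := by
    rw [isFinite_iff_locallyOfFiniteType_of_jacobsonSpace]
    infer_instance
  let c := (g.fiber s).fromSpecResidueField z ≫ g.fiberι s
  have e1 : f.fiberToSpecResidueField s ≫ S.fromSpecResidueField s = f.fiberι s ≫ f :=
    (pullback.condition (f := f) (g := S.fromSpecResidueField s)).symm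
  have e2 : c₀ ≫ S.fromSpecResidueField s = c ≫ g := by
    simp only [c₀, c, Category.assoc]
    exact congrArg ((g.fiber s).fromSpecResidueField z ≫ ·)
      (pullback.condition (f := g) (g := S.fromSpecResidueField s)).symm
  refine ⟨pullback (f.fiberToSpecResidueField s) c₀, pullback.fst _ _,
    pullback.map _ _ f g (f.fiberι s) c (S.fromSpecResidueField s) e1 e2, inferInstance,
    pullback.lift_fst _ _ _, fun y => ?_, fun o h1 h2 => ?_⟩
  · rw [← Scheme.Hom.comp_apply, pullback.lift_snd]
    simp [c, Scheme.Hom.comp_apply, Scheme.fromSpecResidueField_apply]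
  · show o ∈ Set.range (pullback.map _ _ f g _ _ _ e1 e2)
    rw [Scheme.Pullback.range_map]
    refine ⟨by rw [Set.mem_preimage, f.range_fiberι]; exact h1, ?_⟩
    obtain ⟨t⟩ : Nonempty (Spec ((g.fiber s).residueField z)) := inferInstance
    exact ⟨t, by rw [h2]; simp [c, Scheme.Hom.comp_apply, Scheme.fromSpecResidueField_apply]⟩

/-- Specialisations in a fibre lift over a closed point of the fibre of another factor. -/
theorem exists_specializes_pullback {X Y : Scheme.{u}} (f : X ⟶ S) (g : Y ⟶ S) (s : S)
    [LocallyOfFiniteType (f.fiberToSpecResidueField s)] (z : f.fiber s) (hz : IsClosed {z})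
    (o : ↥(pullback f g)) (ho : pullback.fst f g o = f.fiberι s z) (w : g.fiber s)
    (hsp : pullback.snd f g o ⤳ g.fiberι s w) :
    ∃ o', o ⤳ o' ∧ pullback.fst f g o' = f.fiberι s z ∧ pullback.snd f g o' = g.fiberι s w := by
  obtain ⟨P, p, j, hp, hj, hjz, hjr⟩ := exists_pt_map g f s z hz
  have e : (pullbackSymmetry f g).hom ≫ pullback.fst g f = pullback.snd f g := pullbackSymmetry_hom_comp_fst _ _
  have e' : (pullbackSymmetry f g).hom ≫ pullback.snd g f = pullback.fst f g := pullbackSymmetry_hom_comp_snd _ _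
  have hz' : f (f.fiberι s z) = s := (f.range_fiberι s).subset ⟨z, rfl⟩
  have hos : g (pullback.snd f g o) = s := by
    rw [← Scheme.Hom.comp_apply, ← pullback.condition, Scheme.Hom.comp_apply, ho]; exact hz'
  obtain ⟨y, hy⟩ := hjr ((pullbackSymmetry f g).hom o)
    (by rw [← Scheme.Hom.comp_apply (pullbackSymmetry f g).hom, e]; exact hos)
    (by rw [← Scheme.Hom.comp_apply, e']; exact ho)
  have hpy : p y ⤳ w := (g.fiberι s).isEmbedding.isInducing.specializes_iff.mp (by
    rw [← Scheme.Hom.comp_apply p, ← hj, Scheme.Hom.comp_apply, hy, ← Scheme.Hom.comp_apply, e]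
    exact hsp)
  obtain ⟨y', hyy, hy'⟩ := p.isClosedMap.specializingMap hpy
  have einv : (pullbackSymmetry f g).inv ((pullbackSymmetry f g).hom o) = o := by
    rw [← Scheme.Hom.comp_apply, Iso.hom_inv_id]; rfl
  refine ⟨(pullbackSymmetry f g).inv (j y'), ?_, ?_, ?_⟩
  · have := (hyy.map j.continuous).map (pullbackSymmetry f g).inv.continuous
    rwa [hy, einv] at this
  · rw [← Scheme.Hom.comp_apply, pullbackSymmetry_inv_comp_fst]; exact hjz y'
  · rw [← Scheme.Hom.comp_apply, pullbackSymmetry_inv_comp_snd, ← Scheme.Hom.comp_apply, hj,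
      Scheme.Hom.comp_apply, hy']

/-- A closed point in the closure of a point of a fibre. -/
theorem exists_closed_specialization {X : Scheme.{u}} (f : X ⟶ S) (s : S)
    [LocallyOfFiniteType (f.fiberToSpecResidueField s)] (a : X) (ha : f a = s) :
    ∃ w : f.fiber s, IsClosed {w} ∧ a ⤳ f.fiberι s w := by
  haveI : JacobsonSpace (f.fiber s) := LocallyOfFiniteType.jacobsonSpace (f.fiberToSpecResidueField s)
  obtain ⟨a', ha'⟩ : a ∈ Set.range (f.fiberι s) := by rw [f.range_fiberι]; exact ha
  obtain ⟨w, hw, hwc⟩ := nonempty_inter_closedPoints (Z := closure {a'}) ⟨a', subset_closure rfl⟩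
    isClosed_closure.isLocallyClosed
  refine ⟨w, hwc, ?_⟩
  rw [← ha']
  exact (specializes_iff_mem_closure.mpr hw).map (f.fiberι s).continuous

/-- Geometric points over a given closed point of a fibre are finite in number. -/
theorem finite_points_over {X : Over S} (s : S) [LocallyOfFiniteType (X.hom.fiberToSpecResidueField s)]
    (z : X.hom.fiber s) (hz : IsClosed {z}) {K : Type u} [Field K] [IsAlgClosed K]
    (φ : Spec (CommRingCat.of K) ⟶ Spec (S.residueField s)) (t : Spec (CommRingCat.of K)) :
    Finite {m : Over.mk (φ ≫ S.fromSpecResidueField s) ⟶ X // m.left t = X.hom.fiberι s z} := by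
  haveI : JacobsonSpace (X.hom.fiber s) := LocallyOfFiniteType.jacobsonSpace (X.hom.fiberToSpecResidueField s)
  haveI := isClosed_singleton_iff_isClosedImmersion.mp hz
  let c₀ := (X.hom.fiber s).fromSpecResidueField z ≫ X.hom.fiberToSpecResidueField s
  haveI : IsFinite c₀ := by
    rw [isFinite_iff_locallyOfFiniteType_of_jacobsonSpace]
    infer_instance
  let P := pullback c₀ φ
  let p : P ⟶ Spec (CommRingCat.of K) := pullback.snd c₀ φ
  haveI : Finite P := by
    rw [← Set.finite_univ_iff, ← Set.preimage_univ (f := p)]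
    exact p.finite_preimage (Set.toFinite _)
  have key : ∀ m : {m : Over.mk (φ ≫ S.fromSpecResidueField s) ⟶ X // m.left t = X.hom.fiberι s z},
      ∃ σ : Spec (CommRingCat.of K) ⟶ P, σ ≫ p = 𝟙 _ ∧
        σ ≫ pullback.fst c₀ φ ≫ (X.hom.fiber s).fromSpecResidueField z ≫ X.hom.fiberι s = m.1.left := by
    intro m
    have hm : m.1.left ≫ X.hom = φ ≫ S.fromSpecResidueField s := Over.w m.1
    let q : Spec (CommRingCat.of K) ⟶ X.hom.fiber s := pullback.lift m.1.left φ hm
    have hqi : q ≫ X.hom.fiberι s = m.1.left := pullback.lift_fst _ _ _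
    have hq : q t = z := (X.hom.fiberι s).isEmbedding.injective (by
      rw [← Scheme.Hom.comp_apply, hqi]
      exact m.2)
    obtain ⟨d, hd⟩ := exists_fac_residue q t hq
    refine ⟨pullback.lift d (𝟙 _) ?_, pullback.lift_snd _ _ _, ?_⟩
    · rw [Category.id_comp, ← Category.assoc, hd]
      exact pullback.lift_snd _ _ _
    · rw [pullback.lift_fst_assoc, ← Category.assoc, hd, hqi]
  choose σ hσ1 hσ2 using key
  refine Finite.of_injective (fun m => σ m (IsLocalRing.closedPoint K)) fun m m' h => Subtype.ext ?_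
  refine Over.OverMorphism.ext ?_
  rw [← hσ2 m, ← hσ2 m', ext_of_apply_closedPoint_eq p (hσ1 m) (hσ1 m') h]

variable {G X : Over S} [GrpObj G]

/-- An open set dense in a fibre meets all components of a geometric fibre. -/
theorem component_meets (s : S) [LocallyOfFiniteType (X.hom.fiberToSpecResidueField s)] (U : X.left.Opens)
    (hdense : X.hom.base ⁻¹' {s} ⊆ closure ((U : Set X.left) ∩ X.hom.base ⁻¹' {s}))
    {K : Type u} [Field K] (φ : Spec (CommRingCat.of K) ⟶ Spec (S.residueField s))
    (w : ↥(pullback X.hom (φ ≫ S.fromSpecResidueField s))) :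
    (irreducibleComponent w ∩ pullback.fst X.hom (φ ≫ S.fromSpecResidueField s) ⁻¹' U).Nonempty := by
  haveI : IsLocallyNoetherian (X.hom.fiber s) :=
    LocallyOfFiniteType.isLocallyNoetherian (X.hom.fiberToSpecResidueField s)
  let π : pullback X.hom (φ ≫ S.fromSpecResidueField s) ⟶ X.hom.fiber s :=
    pullback.lift (pullback.fst _ _) (pullback.snd _ _ ≫ φ) (by rw [Category.assoc, pullback.condition])
  have hπ : π ≫ X.hom.fiberι s = pullback.fst _ _ := pullback.lift_fst _ _ _
  have hsq : IsPullback π (pullback.snd _ _) (X.hom.fiberToSpecResidueField s) φ :=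
    IsPullback.of_right (by
      rw [show π ≫ pullback.fst X.hom (S.fromSpecResidueField s) = pullback.fst _ _ from hπ]
      exact IsPullback.of_hasPullback _ _) (pullback.lift_snd _ _ _) (IsPullback.of_hasPullback _ _)
  haveI : Flat π := MorphismProperty.of_isPullback hsq.flip inferInstance
  have hI : IsIrreducible (irreducibleComponent w) := isIrreducible_irreducibleComponent
  have hg := hI.closure_genericPoint isClosed_irreducibleComponent
  have hmax : ∀ v, v ⤳ π hI.genericPoint → v = π hI.genericPoint := by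
    intro v hv
    obtain ⟨η', hη : η' ⤳ hI.genericPoint, hηv⟩ := Flat.generalizingMap (f := π) hv
    have h3 : irreducibleComponent w ⊆ closure {η'} := by
      rw [← hg]
      exact closure_minimal (Set.singleton_subset_iff.mpr hη.mem_closure) isClosed_closure
    have h4 := eq_irreducibleComponent isIrreducible_singleton.closure.isPreirreducible h3
    rw [← hηv, (hI.isGenericPoint_genericPoint isClosed_irreducibleComponent).eq (h4 ▸ isGenericPoint_closure)]
  refine ⟨hI.genericPoint, hg.le (subset_closure rfl), ?_⟩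
  show pullback.fst X.hom _ hI.genericPoint ∈ U
  rw [← hπ, Scheme.Hom.comp_apply]
  let x := π hI.genericPoint
  let U₁ : Set (X.hom.fiber s) := X.hom.fiberι s ⁻¹' U
  have hU₁ : IsOpen U₁ := U.2.preimage (X.hom.fiberι s).continuous
  have hU₁d : Dense U₁ := fun y => by
    rw [(X.hom.fiberι s).isEmbedding.isInducing.closure_eq_preimage_closure_image, Set.mem_preimage,
      Set.image_preimage_eq_inter_range, X.hom.range_fiberι]
    exact hdense ((X.hom.range_fiberι s).subset ⟨y, rfl⟩)
  obtain ⟨W, hW, hxW, -⟩ := exists_isAffineOpen_mem_and_subset (x := x) (U := (⊤ : (X.hom.fiber s).Opens)) trivial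
  haveI : IsNoetherianRing Γ(X.hom.fiber s, W) := IsLocallyNoetherian.component_noetherian ⟨W, hW⟩
  haveI : TopologicalSpace.NoetherianSpace (W : Set (X.hom.fiber s)) :=
    noetherianSpace_of_isAffineOpen W hW
  let U₂ : Set (W : Set (X.hom.fiber s)) := Subtype.val ⁻¹' U₁
  have hU₂ : IsOpen U₂ := hU₁.preimage continuous_subtype_val
  have hd₂ : Dense U₂ := hU₁d.preimage W.2.isOpenEmbedding_subtypeVal.isOpenMap
  obtain ⟨Zs, hZf, hZc, hZi, hZ⟩ :=
    TopologicalSpace.NoetherianSpace.exists_finite_set_isClosed_irreducible (α := (W : Set (X.hom.fiber s)))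
      (isClosed_univ)
  have hx2 : (⟨x, hxW⟩ : (W : Set (X.hom.fiber s))) ∈ ⋃₀ {Z ∈ Zs | (Z ∩ U₂).Nonempty} := by
    have hsub : U₂ ⊆ ⋃₀ {Z ∈ Zs | (Z ∩ U₂).Nonempty} := fun v hv => by
      obtain ⟨Z, hZm, hvZ⟩ := (hZ ▸ Set.mem_univ v : v ∈ ⋃₀ Zs)
      exact ⟨Z, ⟨hZm, v, hvZ, hv⟩, hvZ⟩
    refine closure_minimal hsub ?_ (hd₂ _)
    rw [Set.sUnion_eq_biUnion]
    exact (hZf.subset fun Z h => h.1).isClosed_biUnion fun Z h => hZc Z h.1
  obtain ⟨Z, ⟨hZm, v₀, hv₀Z, hv₀U⟩, hxZ⟩ := hx2
  haveI : QuasiSober (W : Set (X.hom.fiber s)) := W.2.isOpenEmbedding_subtypeVal.quasiSober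
  have hgen := (hZi Z hZm).isGenericPoint_genericPoint (hZc Z hZm)
  have hu : (hZi Z hZm).genericPoint ∈ U₂ := (hgen.specializes hv₀Z).mem_open hU₂ hv₀U
  have := hmax _ ((hgen.specializes hxZ).map continuous_subtype_val)
  show x ∈ U₁
  exact Eq.mp (congrArg (· ∈ U₁) this) hu

/-- Finitely many points are moved simultaneously by an element of a given open set. -/
theorem exists_pt_translate_fin [LocallyOfFinitePresentation G.hom] (a : AlgGrp.Action G X)
    (hΦ : Surjective (lift a.act (snd G X)).left)
    {K : Type u} [Field K] [IsAlgClosed K] (f : Spec (CommRingCat.of K) ⟶ S)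
    (t : (Over.mk f).left) (O : G.left.Opens) {e : Over.mk f ⟶ G} (he : e.left t ∈ O)
    (U : X.left.Opens)
    (hmeet : ∀ w : ↥(pullback X.hom f), (irreducibleComponent w ∩ pullback.fst X.hom f ⁻¹' U).Nonempty)
    {J : Type*} [Finite J] (x : J → (Over.mk f ⟶ X)) :
    ∃ g : Over.mk f ⟶ G, g.left t ∈ O ∧ ∀ i, (lift g (x i) ≫ a.act).left t ∈ U := by
  classical
  let E := 𝟙_ (Over (Spec (CommRingCat.of K)))
  let i : (Over.map f).obj E ≅ Over.mk f := Over.isoMk (Iso.refl _) (by simp [E])
  let G' := Red.bc f G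
  let X' := Red.bc f X
  let he' := fun (Y : Over S) => (Over.mapPullbackAdj f).homEquiv E Y
  let up := fun (Y : Over S) (m : Over.mk f ⟶ Y) => he' Y (i.hom ≫ m)
  have hup : ∀ (Y : Over S) (m : Over.mk f ⟶ Y), (up Y m).left ≫ pullback.fst Y.hom f = m.left :=
    fun Y m => by
      have h := congrArg (fun q => q.left) ((he' Y).symm_apply_apply (i.hom ≫ m))
      simp only [he', Adjunction.homEquiv_counit] at h
      refine h.trans ?_
      simp [i]
  haveI : LocallyOfFiniteType G'.hom := inferInstanceAs (LocallyOfFiniteType (pullback.snd G.hom f))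
  let U' : Set X'.left := pullback.fst X.hom f ⁻¹' U
  have hU' : IsOpen U' := U.2.preimage (pullback.fst X.hom f).continuous
  let O' : Set G'.left := pullback.fst G.hom f ⁻¹' O
  have hO' : IsOpen O' := O.2.preimage (pullback.fst G.hom f).continuous
  obtain ⟨t₀⟩ : Nonempty E.left := inferInstanceAs (Nonempty (PrimeSpectrum K))
  have hsub : ∀ q : E.left, q = t := fun q => Subsingleton.elim (α := PrimeSpectrum K) _ _
  have hne : O'.Nonempty := ⟨(up G e).left t₀, by
    show pullback.fst G.hom f ((up G e).left t₀) ∈ O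
    rw [← Scheme.Hom.comp_apply, hup, hsub t₀]
    exact he⟩
  let P : J → Set G'.left := fun i => ((a.bc f).orbitMap (up X (x i))).left ⁻¹' U'
  have hop : ∀ i, IsOpen (P i) := fun i => hU'.preimage ((a.bc f).orbitMap (up X (x i))).left.continuous
  have hd : ∀ i, Dense (P i) := fun i => dense_orbit_preimage (a.bc f) (surjective_bc a hΦ f) (up X (x i)) hU' hmeet
  have hall : Dense (⋂ i, P i) ∧ IsOpen (⋂ i, P i) := by
    refine ⟨?_, isOpen_iInter_of_finite hop⟩
    have : ∀ F : Set J, F.Finite → Dense (⋂ i ∈ F, P i) ∧ IsOpen (⋂ i ∈ F, P i) := fun F hF => by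
      induction F, hF using Set.Finite.induction_on with
      | empty => simp
      | insert _ _ ih =>
        rw [Set.biInter_insert]
        exact ⟨(hd _).inter_of_isOpen_left ih.1 (hop _), (hop _).inter ih.2⟩
    simpa using (this Set.univ Set.finite_univ).1
  haveI : JacobsonSpace G'.left := LocallyOfFiniteType.jacobsonSpace G'.hom
  obtain ⟨g₀, ⟨hgO, hgP⟩, hgc⟩ := nonempty_inter_closedPoints
    (hall.1.inter_open_nonempty _ hO' hne) (hO'.inter hall.2).isLocallyClosed
  let g' : E ⟶ G' := Over.homMk (pointOfClosedPoint G'.hom g₀ hgc) (pointOfClosedPoint_comp _ _ _)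
  have hg' : ∀ t, g'.left t = g₀ := fun t => pointOfClosedPoint_apply _ _ hgc t
  let g : Over.mk f ⟶ G := i.inv ≫ (he' G).symm g'
  have hgg : up G g = g' := by simp [up, g]
  have horb : ∀ m, up X (lift g m ≫ a.act) = g' ≫ (a.bc f).orbitMap (up X m) := fun m => by
    show he' X (i.hom ≫ lift g m ≫ a.act) = _
    rw [← Category.assoc, comp_lift]
    refine ((AlgGrp.Action.lift_homEquiv_bc_act f a (i.hom ≫ g) (i.hom ≫ m)).symm).trans ?_
    show lift (up G g) (up X m) ≫ _ = _
    rw [hgg, AlgGrp.Action.orbitMap, comp_lift_assoc, Category.comp_id, ← Category.assoc,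
      toUnit_unique (g' ≫ toUnit G') (𝟙 E), Category.id_comp]
  refine ⟨g, ?_, fun j => ?_⟩
  · rw [← hup G g, Scheme.Hom.comp_apply, hgg, hg']
    exact hgO
  · rw [← hup X, Scheme.Hom.comp_apply, horb, Over.comp_left, Scheme.Hom.comp_apply, hg']
    exact Set.mem_iInter.mp hgP j

/-- Near the identity there are group elements moving a finite subset of a fibre into a dense open set. -/
theorem exists_good_open [LocallyOfFinitePresentation G.hom] (a : AlgGrp.Action G X)
    (hΦ : Surjective (lift a.act (snd G X)).left) (s : S) [LocallyOfFiniteType (X.hom.fiberToSpecResidueField s)]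
    (U : X.left.Opens) (hdense : X.hom.base ⁻¹' {s} ⊆ closure ((U : Set X.left) ∩ X.hom.base ⁻¹' {s}))
    (A : Set X.left) (hA : A.Finite) (hAs : A ⊆ X.hom.base ⁻¹' {s})
    (O : G.left.Opens) (hO : ∀ p : ↥(𝟙_ (Over S)).left, η[G].left.base p ∈ O) :
    ∃ T : G.left.Opens, ((↑(O ⊓ T) : Set G.left) ∩ G.hom.base ⁻¹' {s}).Nonempty ∧
      ∀ (gm : G.hom.fiber s), IsClosed {gm} → G.hom.fiberι s gm ∈ T →
        ∀ o : ↥(pullback G.hom X.hom), pullback.fst G.hom X.hom o = G.hom.fiberι s gm →
          pullback.snd G.hom X.hom o ∈ A → a.act.left o ∈ U := by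
  classical
  haveI : LocallyOfFiniteType (G.hom.fiberToSpecResidueField s) :=
    inferInstanceAs (LocallyOfFiniteType (pullback.snd G.hom (S.fromSpecResidueField s)))
  haveI := hA.to_subtype
  choose w hwc hwa using fun x : A => exists_closed_specialization X.hom s x.1 (hAs x.2)
  choose P p j hp hj hjw hjr using fun x : A => exists_pt_map G.hom X.hom s (w x) (hwc x)
  let Bad : A → Set (G.hom.fiber s) := fun x => p x '' ((j x) ⁻¹' (a.act.left ⁻¹' (U : Set X.left)ᶜ))
  have hBad : ∀ x, IsClosed (Bad x) := fun x => (p x).isClosedMap _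
    ((U.2.isClosed_compl.preimage a.act.left.continuous).preimage (j x).continuous)
  obtain ⟨T, hTo, hT⟩ := (G.hom.fiberι s).isEmbedding.isInducing.isOpen_iff.mp
    (isOpen_iInter_of_finite fun x => (hBad x).isOpen_compl)
  refine ⟨⟨T, hTo⟩, ?_, ?_⟩
  · let K := AlgebraicClosure (S.residueField s)
    let φ : Spec (CommRingCat.of K) ⟶ Spec (S.residueField s) :=
      Spec.map (CommRingCat.ofHom (algebraMap (S.residueField s) K))
    let f := φ ≫ S.fromSpecResidueField s
    let t : (Over.mk f).left := IsLocalRing.closedPoint K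
    have hts : f t = s := by simp [f, Scheme.Hom.comp_apply, Scheme.fromSpecResidueField_apply]
    haveI := fun x => finite_points_over (X := X) s (w x) (hwc x) φ t
    obtain ⟨g, hgO, hgU⟩ := exists_pt_translate_fin a hΦ f t O (e := toUnit _ ≫ η[G]) (hO _) U
      (component_meets s U hdense φ)
      (fun i : Σ x : A, {m : Over.mk f ⟶ X // m.left t = X.hom.fiberι s (w x)} => i.2.1)
    let gm : Spec (CommRingCat.of K) ⟶ G.hom.fiber s := pullback.lift g.left φ (Over.w g)
    have hgm : gm ≫ G.hom.fiberι s = g.left := pullback.lift_fst _ _ _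
    refine ⟨g.left t, ⟨hgO, ?_⟩, ?_⟩
    · rw [SetLike.mem_coe]
      show g.left t ∈ T
      rw [← hgm, Scheme.Hom.comp_apply, ← Set.mem_preimage, hT, Set.mem_iInter]
      rintro x ⟨y, hy, hpy⟩
      refine hy ?_
      show a.act.left (j x y) ∈ U
      obtain ⟨v, hv1, -⟩ := Scheme.Pullback.exists_preimage_pullback (f := p x) (g := gm) y t hpy
      let Q := pullback.snd (p x) gm
      haveI := hp x
      haveI : IsFinite Q := inferInstance
      haveI : Finite ↥(pullback (p x) gm) := by
        rw [← Set.finite_univ_iff, ← Set.preimage_univ (f := Q)]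
        exact Q.finite_preimage (Set.toFinite _)
      haveI : JacobsonSpace ↥(pullback (p x) gm) := LocallyOfFiniteType.jacobsonSpace Q
      let r := pointOfClosedPoint Q v (isClosed_discrete _)
      let q : Spec (CommRingCat.of K) ⟶ pullback G.hom X.hom := r ≫ pullback.fst (p x) gm ≫ j x
      have hq1 : q ≫ pullback.fst G.hom X.hom = g.left := by
        simp only [q, Category.assoc, hj x, pullback.condition_assoc]
        rw [pointOfClosedPoint_comp_assoc]
        exact hgm
      let m : Over.mk f ⟶ X := Over.homMk (q ≫ pullback.snd G.hom X.hom) (by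
        rw [Category.assoc, ← pullback.condition, ← Category.assoc, hq1]
        exact Over.w g)
      have hqt : q t = j x y := by
        simp only [q, Scheme.Hom.comp_apply]
        rw [pointOfClosedPoint_apply, hv1]
      have hm : m.left t = X.hom.fiberι s (w x) := by
        show (q ≫ pullback.snd G.hom X.hom) t = _
        rw [Scheme.Hom.comp_apply, hqt]
        exact hjw x y
      have h := hgU ⟨x, m, hm⟩
      have he : (lift g m).left = q := by
        apply pullback.hom_ext
        · exact (congrArg (fun k => k.left) (lift_fst g m)).trans hq1.symm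
        · exact congrArg (fun k => k.left) (lift_snd g m)
      rw [Over.comp_left, Scheme.Hom.comp_apply, he, hqt] at h
      exact h
    · show G.hom (g.left t) = s
      rw [← Scheme.Hom.comp_apply, Over.w g]
      exact hts
  · intro gm hgm hgmT o ho hoA
    obtain ⟨o', hoo, ho1, ho2⟩ := exists_specializes_pullback G.hom X.hom s gm hgm o ho (w ⟨_, hoA⟩) (hwa ⟨_, hoA⟩)
    obtain ⟨y, hy⟩ := hjr ⟨_, hoA⟩ o' (by rw [ho1]; exact (G.hom.range_fiberι s).subset ⟨gm, rfl⟩) ho2
    refine (hoo.map a.act.left.continuous).mem_open U.2 ?_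
    by_contra hU
    have hgmB : gm ∈ Bad ⟨_, hoA⟩ := ⟨y, by rw [Set.mem_preimage, hy]; exact hU,
      (G.hom.fiberι s).isEmbedding.injective (by
        rw [← Scheme.Hom.comp_apply (p ⟨_, hoA⟩), ← hj, Scheme.Hom.comp_apply, hy, ho1])⟩
    have h : gm ∈ G.hom.fiberι s ⁻¹' T := hgmT
    rw [hT, Set.mem_iInter] at h
    exact h _ hgmB

end Groth.Agent.SlicePt
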