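import Groth.Agent.SlicePt.QFLift
import Groth.Agent.SlicePt.ThroughScheme
import Groth.Agent.GrpDim.UnivOpen
import Groth.Agent.HTopV.Basic
import Groth.Agent.LimDesc.FPCancel
import Mathlib.AlgebraicGeometry.AffineSpace

/-!
# Universal openness of quasi-finite maps to affine space
-/

set_option autoImplicit false
set_option linter.style.haveILetI false
universe u
open CategoryTheory CategoryTheory.Limits AlgebraicGeometry TensorProduct PrimeSpectrum

namespace Groth.Agent.SlicePt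

section Coord

variable {S : Scheme.{u}} {n : ℕ}

/-- The coordinates of a point of affine space with values in a ring. -/
noncomputable def coordOf {T : CommRingCat.{u}} (m : Spec T ⟶ 𝔸(ULift.{u} (Fin n); S)) (i : Fin n) : T :=
  (Scheme.ΓSpecIso T).hom (m.appTop (AffineSpace.coord S (ULift.up i)))

theorem coordOf_comp {T T' : CommRingCat.{u}} (χ : T ⟶ T') (m : Spec T ⟶ 𝔸(ULift.{u} (Fin n); S)) (i : Fin n) :
    coordOf (Spec.map χ ≫ m) i = χ (coordOf m i) := by
  simp only [coordOf, Scheme.Hom.comp_appTop, CommRingCat.comp_apply]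
  exact congr($(Scheme.ΓSpecIso_naturality χ) (m.appTop (AffineSpace.coord S (ULift.up i))))

theorem coordOf_homOfVector {T : CommRingCat.{u}} (g : Spec T ⟶ S) (v : Fin n → T) (i : Fin n) :
    coordOf (AffineSpace.homOfVector g fun j : ULift.{u} (Fin n) => (Scheme.ΓSpecIso T).inv (v j.down)) i = v i := by
  rw [coordOf, AffineSpace.homOfVector_appTop_coord]
  exact (Scheme.ΓSpecIso T).inv_hom_id_apply _

theorem ext_coordOf {T : CommRingCat.{u}} {m m' : Spec T ⟶ 𝔸(ULift.{u} (Fin n); S)}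
    (h : m ≫ (𝔸(ULift.{u} (Fin n); S) ↘ S) = m' ≫ (𝔸(ULift.{u} (Fin n); S) ↘ S))
    (hc : ∀ i, coordOf m i = coordOf m' i) : m = m' :=
  AffineSpace.hom_ext h fun i => (ConcreteCategory.bijective_of_isIso (Scheme.ΓSpecIso T).hom).1 (hc i.down)

end Coord

/-- Long chains over a prime above another give long chains in the quotient of the fibre. -/
theorem natCast_le_ringKrullDim_quotient {R B : Type u} [CommRing R] [CommRing B] [Algebra R B] (p : Ideal R)
    [p.IsPrime] (Q₀ : Ideal (p.Fiber B)) [Q₀.IsPrime] (l : LTSeries (PrimeSpectrum B))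
    (hl : ∀ i, (l i).asIdeal.comap (algebraMap R B) = p ∧ Q₀.comap (toFib p) ≤ (l i).asIdeal) :
    (l.length : WithBot ℕ∞) ≤ ringKrullDim (p.Fiber B ⧸ Q₀) := by
  let e := PrimeSpectrum.preimageOrderIsoFiber R B ⟨p, inferInstance⟩
  let lF : LTSeries (PrimeSpectrum (p.Fiber B)) :=
    ⟨l.length, fun i => e ⟨l i, PrimeSpectrum.ext (hl i).1⟩, fun i => e.strictMono (l.step i)⟩
  have hQl : ∀ i, Q₀ ≤ (lF i).asIdeal := fun i => by
    refine le_of_comap_toFib p ?_
    have : ((lF i).asIdeal.comap (toFib p)) = (l i).asIdeal :=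
      congrArg (fun y => y.1.asIdeal) (e.symm_apply_apply ⟨l i, PrimeSpectrum.ext (hl i).1⟩)
    rw [this]
    exact (hl i).2
  let lQ : LTSeries (PrimeSpectrum (p.Fiber B ⧸ Q₀)) :=
    ⟨l.length, fun i => ⟨(lF i).asIdeal.map (Ideal.Quotient.mk Q₀),
      Ideal.map_isPrime_of_surjective Ideal.Quotient.mk_surjective (by rw [Ideal.mk_ker]; exact hQl i)⟩,
      fun i => by
        have hc : ∀ j, ((lF j).asIdeal.map (Ideal.Quotient.mk Q₀)).comap (Ideal.Quotient.mk Q₀) = (lF j).asIdeal :=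
          fun j => by
            rw [Ideal.comap_map_of_surjective _ Ideal.Quotient.mk_surjective, ← RingHom.ker_eq_comap_bot,
              Ideal.mk_ker, sup_eq_left.mpr (hQl j)]
        refine lt_of_le_of_ne (Ideal.map_mono (show (lF i.castSucc).asIdeal ≤ _ from (lF.step i).le)) fun heq => ?_
        refine (lF.step i).ne (PrimeSpectrum.ext ?_)
        rw [← hc, ← hc (i.succ)]
        exact congrArg (fun y => Ideal.comap (Ideal.Quotient.mk Q₀) y) heq⟩
  exact Order.LTSeries.length_le_krullDim lQ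

/-- A quasi-finite map to affine space is universally open at points of a component of full dimension at
whose generic point the structure map is universally open. -/
theorem isUnivOpenAt_toAffineSpace {X S : Scheme.{u}} (f : X ⟶ S) [LocallyOfFinitePresentation f] (s : S)
    (n : ℕ) (u : X ⟶ 𝔸(ULift.{u} (Fin n); S)) [LocallyQuasiFinite u]
    (hu : u ≫ (𝔸(ULift.{u} (Fin n); S) ↘ S) = f) (Z : Set ↥(f.base ⁻¹' {s})) (hZ : IsClosed Z)
    (x : X) (hxZ : x ∈ Subtype.val '' Z)
    (z : X) (hzZ : z ∈ Subtype.val '' Z) (hZz : Subtype.val '' Z ⊆ closure {z})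
    (hopen : EGA43.IsUnivOpenAt f z) (hdim : (n : WithBot ℕ∞) ≤ topologicalKrullDim ↥Z) :
    EGA43.IsUnivOpenAt u x := by
  classical
  haveI : LocallyOfFinitePresentation u := by
    haveI : LocallyOfFinitePresentation (u ≫ (𝔸(ULift.{u} (Fin n); S) ↘ S)) := by rw [hu]; infer_instance
    exact LimDesc.lfp_of_comp u (𝔸(ULift.{u} (Fin n); S) ↘ S)
  have hxs : f x = s := by obtain ⟨w, -, rfl⟩ := hxZ; exact w.2
  have hzs : f z = s := by obtain ⟨w, -, rfl⟩ := hzZ; exact w.2
  have hzx : z ⤳ x := specializes_iff_mem_closure.mpr (hZz hxZ)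
  intro Y' g x' hx'
  show EGA43.IsOpenAt (pullback.snd u g) x'
  haveI : LocallyOfFinitePresentation (pullback.snd u g) := inferInstance
  refine GrpDim.isOpenAt_of_lifts (pullback.snd u g) fun a ha => ?_
  obtain ⟨V, i2, i3, gV, hg0, hg1⟩ := HTopV.exists_spec_valuationRing ha
  let u' := pullback.snd u g
  obtain ⟨y, hy1, hy2⟩ := Scheme.Pullback.exists_preimage_pullback (f := u') (g := gV) x'
    (IsLocalRing.closedPoint V) hg1.symm
  -- charts
  obtain ⟨A, hA, hsA, -⟩ := exists_isAffineOpen_mem_and_subset (x := s) (U := (⊤ : S.Opens)) trivial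
  obtain ⟨W, hW, hxW, hWA⟩ := exists_isAffineOpen_mem_and_subset (x := x) (U := f ⁻¹ᵁ A)
    (show f x ∈ A by rw [hxs]; exact hsA)
  have e : W ≤ f ⁻¹ᵁ A := hWA
  have hzW : z ∈ W := hzx.mem_open W.2 hxW
  let φ := f.appLE A W e
  have hφ : Spec.map φ ≫ hA.fromSpec = hW.fromSpec ≫ f := IsAffineOpen.SpecMap_appLE_fromSpec f hA hW e
  have hfp : φ.hom.FinitePresentation :=
    HasRingHomProperty.appLE @LocallyOfFinitePresentation f ‹_› ⟨A, hA⟩ ⟨W, hW⟩ e
  letI := φ.hom.toAlgebra
  haveI : Algebra.FinitePresentation Γ(S, A) Γ(X, W) := hfp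
  let gS : Spec (CommRingCat.of V) ⟶ S := gV ≫ g ≫ (𝔸(ULift.{u} (Fin n); S) ↘ S)
  -- the point with values in its residue field
  let mX := (pullback u' gV).fromSpecResidueField y ≫ pullback.fst u' gV ≫ pullback.fst u g
  let mV := (pullback u' gV).fromSpecResidueField y ≫ pullback.snd u' gV
  have hmu : mX ≫ u = mV ≫ gV ≫ g := by
    simp only [mX, mV, Category.assoc, pullback.condition]
    rw [← pullback.condition_assoc]
  have hmS : mX ≫ f = mV ≫ gS := by
    rw [← hu, ← Category.assoc, hmu]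
    simp only [gS, Category.assoc]
  have hmX : ∀ w, mX w = x := fun w => by
    simp only [mX, Scheme.Hom.comp_apply, Scheme.fromSpecResidueField_apply]
    rw [hy1]
    exact hx'
  have hmV : ∀ w, mV w = IsLocalRing.closedPoint V := fun w => by
    simp only [mV, Scheme.Hom.comp_apply, Scheme.fromSpecResidueField_apply]
    exact hy2
  obtain ⟨pt⟩ : Nonempty (Spec ((pullback u' gV).residueField y)) := inferInstance
  have hgScl : gS (IsLocalRing.closedPoint V) = s := by
    rw [← hmV pt, ← Scheme.Hom.comp_apply, ← hmS, Scheme.Hom.comp_apply, hmX, hxs]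
  obtain ⟨lS, hlS⟩ := HTopV.exists_fac_of_closedPoint_mem gS hA.fromSpec
    (by rw [hA.range_fromSpec, hgScl]; exact hsA)
  obtain ⟨ρ, rfl⟩ := Spec.map_surjective lS
  letI : Algebra Γ(S, A) V := ρ.hom.toAlgebra
  have hrX : Set.range mX ⊆ Set.range hW.fromSpec := by
    rintro _ ⟨w, rfl⟩; rw [hW.range_fromSpec, hmX]; exact hxW
  obtain ⟨χB, hχB⟩ := Spec.map_surjective (IsOpenImmersion.lift hW.fromSpec mX hrX)
  have hχB' : Spec.map χB ≫ hW.fromSpec = mX :=
    (congrArg (· ≫ hW.fromSpec) hχB).trans (IsOpenImmersion.lift_fac _ _ hrX)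
  obtain ⟨χV, hχV⟩ := Spec.map_surjective mV
  have hRcomp : φ ≫ χB = ρ ≫ χV := Spec.map_injective (by
    rw [← cancel_mono hA.fromSpec, Spec.map_comp, Spec.map_comp, Category.assoc, Category.assoc, hφ, hlS,
      ← Category.assoc, hχB', hmS, hχV])
  obtain ⟨p, hp⟩ : ∃ p : PrimeSpectrum Γ(S, A), hA.fromSpec p = s := show s ∈ Set.range hA.fromSpec by
    rw [hA.range_fromSpec]; exact hsA
  have hover : ∀ q : PrimeSpectrum Γ(X, W),
      q.asIdeal.comap (algebraMap Γ(S, A) Γ(X, W)) = p.asIdeal ↔ f (hW.fromSpec q) = s := by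
    intro q
    rw [← Unibranch.fromSpec_comap_appLE f hA hW e q, ← hp]
    exact (show q.asIdeal.comap (algebraMap Γ(S, A) Γ(X, W)) = p.asIdeal ↔ PrimeSpectrum.comap φ.hom q = p from
      ⟨fun h => PrimeSpectrum.ext h, fun h => congrArg PrimeSpectrum.asIdeal h⟩).trans
      hA.fromSpec.isOpenEmbedding.injective.eq_iff.symm
  have hV : (IsLocalRing.maximalIdeal V).comap (algebraMap Γ(S, A) V) = p.asIdeal := by
    have h1 : hA.fromSpec (PrimeSpectrum.comap ρ.hom (IsLocalRing.closedPoint V)) = hA.fromSpec p := by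
      rw [hp, ← hgScl, ← hlS]; rfl
    exact congrArg PrimeSpectrum.asIdeal (hA.fromSpec.isOpenEmbedding.injective h1)
  obtain ⟨q₀, hq₀⟩ : ∃ q : PrimeSpectrum Γ(X, W), hW.fromSpec q = z := show z ∈ Set.range hW.fromSpec by
    rw [hW.range_fromSpec]; exact hzW
  obtain ⟨Q₀, hQ₀, hQ₀q⟩ := exists_toFib_eq p.asIdeal q₀.asIdeal ((hover q₀).mpr (by rw [hq₀]; exact hzs))
  haveI := hQ₀
  have hspec : ∀ a c : PrimeSpectrum Γ(X, W), a ≤ c ↔ hW.fromSpec a ⤳ hW.fromSpec c := fun a c =>
    ((PrimeSpectrum.le_iff_specializes a c).trans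
      (hW.fromSpec.isOpenEmbedding.isInducing.specializes_iff (x := a) (y := c)).symm)
  have hn : (n : WithBot ℕ∞) ≤ ringKrullDim (p.asIdeal.Fiber Γ(X, W) ⧸ Q₀) := by
    obtain ⟨c, hc, hcc⟩ := exists_hasChain_component f s Z hZ z hzZ hZz hA hW e hzW hdim
    choose d hd using fun i => (show ∃ q' : PrimeSpectrum Γ(X, W), hW.fromSpec q' = c i from
      show c i ∈ Set.range hW.fromSpec by rw [hW.range_fromSpec]; exact (hc i).1.1)
    refine natCast_le_ringKrullDim_quotient p.asIdeal Q₀ ⟨n, d, fun i => ?_⟩ fun i =>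
      ⟨(hover _).mpr (show f (hW.fromSpec (d i)) = s by rw [hd]; exact (hc i).2), hQ₀q.le.trans
        ((hspec q₀ (d i)).mpr (hq₀.symm ▸ (hd i).symm ▸ specializes_iff_mem_closure.mpr (hc i).1.2))⟩
    have h2 : (d i.castSucc : PrimeSpectrum Γ(X, W)) ≤ d i.succ :=
      (hspec _ _).mpr ((hd i.castSucc).symm ▸ (hd i.succ).symm ▸ (hcc i).1)
    refine lt_of_le_of_ne h2 fun h => (hcc i).2 ?_
    rw [← hd, ← hd, h]
  -- coordinates
  let t : Fin n → Γ(X, W) := coordOf (hW.fromSpec ≫ u)
  let v : Fin n → V := coordOf (gV ≫ g)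
  have hcoord : ∀ i, χB (t i) = χV (v i) := fun i => by
    rw [← coordOf_comp, ← coordOf_comp, ← Category.assoc, hχB', hmu, hχV]
  have hqf : (MvPolynomial.aeval (R := Γ(S, A)) t).toRingHom.QuasiFinite := by
    let eA : Spec (CommRingCat.of (MvPolynomial (Fin n) Γ(S, A))) ⟶ 𝔸(ULift.{u} (Fin n); S) :=
      AffineSpace.homOfVector
        (Spec.map (CommRingCat.ofHom (algebraMap Γ(S, A) (MvPolynomial (Fin n) Γ(S, A)))) ≫ hA.fromSpec)
        fun j => (Scheme.ΓSpecIso _).inv (MvPolynomial.X j.down)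
    let τ : CommRingCat.of (MvPolynomial (Fin n) Γ(S, A)) ⟶ Γ(X, W) :=
      CommRingCat.ofHom (MvPolynomial.aeval (R := Γ(S, A)) t).toRingHom
    have hτ : Spec.map τ ≫ eA = hW.fromSpec ≫ u := by
      refine ext_coordOf ?_ fun i => ?_
      · rw [Category.assoc, AffineSpace.homOfVector_over, Category.assoc, hu, ← hφ, ← Category.assoc,
          ← Spec.map_comp]
        congr 2
        exact CommRingCat.hom_ext (RingHom.ext fun r => (MvPolynomial.aeval t).commutes r)
      · rw [coordOf_comp, coordOf_homOfVector]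
        exact MvPolynomial.aeval_X t i
    haveI : LocallyQuasiFinite (Spec.map τ ≫ eA) := by rw [hτ]; infer_instance
    exact (HasRingHomProperty.Spec_iff (P := @LocallyQuasiFinite)).mp (LocallyQuasiFinite.of_comp (Spec.map τ) eA)
  -- the point of the tensor product
  letI : Algebra Γ(S, A) ((pullback u' gV).residueField y) := (ρ ≫ χV).hom.toAlgebra
  let χ : V ⊗[Γ(S, A)] Γ(X, W) →ₐ[Γ(S, A)] (pullback u' gV).residueField y := Algebra.TensorProduct.lift
    ({ χV.hom with commutes' := fun r => rfl } : V →ₐ[Γ(S, A)] (pullback u' gV).residueField y)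
    ({ χB.hom with commutes' := fun r => congr($(hRcomp) r) } : Γ(X, W) →ₐ[Γ(S, A)] (pullback u' gV).residueField y)
    (fun _ _ => Commute.all _ _)
  have hχv : ∀ w, χ (algebraMap V _ w) = χV w := fun w => by
    show χ (w ⊗ₜ (1 : Γ(X, W))) = _
    rw [Algebra.TensorProduct.lift_tmul, map_one, mul_one]
    rfl
  have hχb : ∀ b, χ ((1 : V) ⊗ₜ b) = χB b := fun b => by
    rw [Algebra.TensorProduct.lift_tmul, map_one, one_mul]
    rfl
  let q : Ideal (V ⊗[Γ(S, A)] Γ(X, W)) := RingHom.ker χ.toRingHom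
  haveI : q.IsPrime := RingHom.ker_isPrime _
  have hqm : q.comap (algebraMap V _) = IsLocalRing.maximalIdeal V := by
    have h1 : (PrimeSpectrum.comap χV.hom pt) = IsLocalRing.closedPoint V := by
      rw [← hmV pt, ← hχV]; rfl
    rw [← show (PrimeSpectrum.comap χV.hom pt).asIdeal = IsLocalRing.maximalIdeal V from congrArg PrimeSpectrum.asIdeal h1]
    ext w
    show χ (algebraMap V _ w) = 0 ↔ χV w ∈ pt.asIdeal
    rw [hχv, (Ideal.eq_bot_or_top pt.asIdeal).resolve_right pt.isPrime.ne_top, Ideal.mem_bot]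
  have hqQ : Q₀.comap (toFib p.asIdeal) ≤
      q.comap (Algebra.TensorProduct.includeRight : Γ(X, W) →ₐ[Γ(S, A)] V ⊗[Γ(S, A)] Γ(X, W)).toRingHom := by
    rw [hQ₀q]
    have h1 : hW.fromSpec (PrimeSpectrum.comap χB.hom pt) = x := by
      rw [← hmX pt, ← hχB']; rfl
    have h2 : (q₀ : PrimeSpectrum Γ(X, W)) ≤ PrimeSpectrum.comap χB.hom pt :=
      (hspec _ _).mpr (by rw [hq₀, h1]; exact hzx)
    refine le_trans (show q₀.asIdeal ≤ _ from h2) fun b hb => ?_
    show χ ((1 : V) ⊗ₜ b) = 0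
    rw [hχb]
    have : χB b ∈ pt.asIdeal := hb
    rwa [(Ideal.eq_bot_or_top pt.asIdeal).resolve_right pt.isPrime.ne_top, Ideal.mem_bot] at this
  obtain ⟨P, hP, hPle, hPbot, hPt⟩ := exists_lift_quasiFinite p.asIdeal Q₀ t hqf hn V hV
    (fun Q hQ hQm hQq => by
      haveI := hQ
      exact exists_generization_of_univOpenAt f hopen hA hW e q₀ hq₀ V Q hQm (hQq.trans hQ₀q))
    v q hqm hqQ (fun i => by
      show χ _ = 0
      rw [map_sub, hχb, hχv, hcoord, sub_self])
  haveI := hP
  -- the domain through the two points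
  let CP := CommRingCat.of ((V ⊗[Γ(S, A)] Γ(X, W)) ⧸ P)
  let κB : Γ(X, W) ⟶ CP := CommRingCat.ofHom ((Ideal.Quotient.mk P).comp
    (Algebra.TensorProduct.includeRight : Γ(X, W) →ₐ[Γ(S, A)] V ⊗[Γ(S, A)] Γ(X, W)).toRingHom)
  let κV : CommRingCat.of V ⟶ CP := CommRingCat.ofHom ((Ideal.Quotient.mk P).comp (algebraMap V _))
  have hκ : (Spec.map κB ≫ hW.fromSpec) ≫ u = (Spec.map κV ≫ gV) ≫ g := by
    rw [Category.assoc, Category.assoc]
    refine ext_coordOf ?_ fun i => ?_
    · rw [Category.assoc, Category.assoc, hu, Category.assoc, Category.assoc, ← hφ]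
      show _ = Spec.map κV ≫ gS
      rw [← hlS, ← Category.assoc (Spec.map κB), ← Category.assoc (Spec.map κV), ← Spec.map_comp, ← Spec.map_comp]
      congr 2
      refine CommRingCat.hom_ext (RingHom.ext fun r => ?_)
      show Ideal.Quotient.mk P ((1 : V) ⊗ₜ[Γ(S, A)] algebraMap Γ(S, A) Γ(X, W) r) =
        Ideal.Quotient.mk P (algebraMap V _ (algebraMap Γ(S, A) V r))
      rw [← IsScalarTower.algebraMap_apply, ← Algebra.TensorProduct.includeRight_apply, AlgHom.commutes]
    · rw [coordOf_comp, coordOf_comp]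
      show Ideal.Quotient.mk P ((1 : V) ⊗ₜ[Γ(S, A)] t i) = Ideal.Quotient.mk P (algebraMap V _ (v i))
      rw [Ideal.Quotient.eq]
      exact hPt i
  let l : Spec CP ⟶ pullback u' gV := pullback.lift
    (pullback.lift (Spec.map κB ≫ hW.fromSpec) (Spec.map κV ≫ gV) hκ) (Spec.map κV) (pullback.lift_snd _ _ _)
  let χP : CP ⟶ (pullback u' gV).residueField y :=
    CommRingCat.ofHom (Ideal.Quotient.lift P χ.toRingHom fun z hz => hPle hz)
  have hly : Spec.map χP ≫ l = (pullback u' gV).fromSpecResidueField y := by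
    have eB : κB ≫ χP = χB := CommRingCat.hom_ext (RingHom.ext hχb)
    have eV : κV ≫ χP = χV := CommRingCat.hom_ext (RingHom.ext hχv)
    apply pullback.hom_ext
    · apply pullback.hom_ext
      · simp only [l, Category.assoc, pullback.lift_fst]
        rw [← Category.assoc, ← Spec.map_comp, eB, hχB']
      · simp only [l, Category.assoc, pullback.lift_fst, pullback.lift_snd]
        rw [← Category.assoc, ← Spec.map_comp, eV, hχV]
        show mV ≫ gV = (pullback u' gV).fromSpecResidueField y ≫ pullback.fst u' gV ≫ u'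
        simp only [mV, Category.assoc, pullback.condition]
    · simp only [l, Category.assoc, pullback.lift_snd]
      rw [← Spec.map_comp, eV, hχV]
  let η : Spec CP := (⟨⊥, Ideal.isPrime_bot⟩ : PrimeSpectrum ((V ⊗[Γ(S, A)] Γ(X, W)) ⧸ P))
  refine ⟨pullback.fst u' gV (l η), ?_, ?_⟩
  · have h1 : η ⤳ Spec.map χP pt := (PrimeSpectrum.le_iff_specializes _ _).mp bot_le
    have h2 := (h1.map l.continuous).map (pullback.fst u' gV).continuous
    rw [← Scheme.Hom.comp_apply (Spec.map χP), hly, Scheme.fromSpecResidueField_apply, hy1] at h2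
    exact h2
  · show u' (pullback.fst u' gV (l η)) = a
    rw [← Scheme.Hom.comp_apply, pullback.condition, Scheme.Hom.comp_apply, ← Scheme.Hom.comp_apply l,
      show l ≫ pullback.snd u' gV = Spec.map κV from pullback.lift_snd _ _ _, ← hg0]
    congr 1
    refine PrimeSpectrum.ext ?_
    show Ideal.comap ((Ideal.Quotient.mk P).comp (algebraMap V _)) ⊥ = ⊥
    rw [← Ideal.comap_comap, ← RingHom.ker_eq_comap_bot, Ideal.mk_ker]
    exact hPbot

end Groth.Agent.SlicePt
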