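import Mathlib

/-!
# Field extensions of finite polynomial covers

A finite injective map from a polynomial ring to a domain stays torsion free after extending the ground
field.
-/

set_option autoImplicit false
set_option linter.style.haveILetI false
universe u

open TensorProduct

namespace Groth.Agent.SlicePt

variable {κ k A : Type u} [Field κ] [Field k] [Algebra κ k] [CommRing A] [Algebra κ A] {n : ℕ}

/-- The extension of a polynomial map to a bigger ground field. -/
noncomputable def extHom (k : Type u) [Field k] [Algebra κ k] (g : MvPolynomial (Fin n) κ →ₐ[κ] A) :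
    MvPolynomial (Fin n) k →ₐ[k] k ⊗[κ] A :=
  MvPolynomial.aeval fun i => 1 ⊗ₜ g (MvPolynomial.X i)

theorem extHom_map (g : MvPolynomial (Fin n) κ →ₐ[κ] A) (F : MvPolynomial (Fin n) κ) :
    extHom k g (MvPolynomial.map (algebraMap κ k) F) = 1 ⊗ₜ g F := by
  induction F using MvPolynomial.induction_on with
  | C a =>
    rw [MvPolynomial.map_C]
    simp only [extHom, MvPolynomial.aeval_C]
    rw [← MvPolynomial.algebraMap_eq, AlgHom.commutes, Algebra.TensorProduct.algebraMap_apply,
      Algebra.algebraMap_eq_smul_one (R := κ) (A := A), Algebra.algebraMap_eq_smul_one (R := κ) (A := k)]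
    simp [TensorProduct.smul_tmul']
  | add a b ha hb => rw [map_add, map_add, map_add, TensorProduct.tmul_add, ha, hb]
  | mul_X a i ha =>
    rw [map_mul, map_mul, map_mul, ha, MvPolynomial.map_X]
    simp [extHom]

theorem extHom_integral (g : MvPolynomial (Fin n) κ →ₐ[κ] A) (hg : g.toRingHom.IsIntegral) :
    (extHom k g).toRingHom.IsIntegral := by
  intro x
  induction x using TensorProduct.induction_on with
  | zero => exact RingHom.isIntegralElem_zero _
  | tmul c a =>
    have h1 : (extHom k g).toRingHom.IsIntegralElem (c ⊗ₜ[κ] (1 : A)) := by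
      have : (extHom k g).toRingHom (MvPolynomial.C c) = c ⊗ₜ[κ] (1 : A) := by simp [extHom]
      rw [← this]
      exact RingHom.isIntegralElem_map _
    have h2 : (extHom k g).toRingHom.IsIntegralElem ((1 : k) ⊗ₜ[κ] a) := by
      obtain ⟨G, hG, hGa⟩ := hg a
      refine ⟨G.map (MvPolynomial.map (algebraMap κ k)), hG.map _, ?_⟩
      rw [Polynomial.eval₂_map]
      have e : (extHom k g).toRingHom.comp (MvPolynomial.map (algebraMap κ k)) =
          (Algebra.TensorProduct.includeRight : A →ₐ[κ] k ⊗[κ] A).toRingHom.comp g.toRingHom :=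
        RingHom.ext fun F => extHom_map g F
      rw [e]
      show Polynomial.eval₂ _ ((Algebra.TensorProduct.includeRight : A →ₐ[κ] k ⊗[κ] A).toRingHom a) G = 0
      rw [← Polynomial.hom_eval₂, hGa, map_zero]
    have := RingHom.IsIntegralElem.mul _ h1 h2
    simpa using this
  | add a b ha hb => exact RingHom.IsIntegralElem.add _ ha hb

/-- Nonzero polynomials act injectively on the extended algebra. -/
theorem extHom_regular [IsDomain A] (g : MvPolynomial (Fin n) κ →ₐ[κ] A) (hinj : Function.Injective g)
    (hfin : g.Finite) {F : MvPolynomial (Fin n) k} (hF : F ≠ 0) {a : k ⊗[κ] A} (h : extHom k g F * a = 0) :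
    a = 0 := by
  classical
  let P := MvPolynomial (Fin n) κ
  letI : Algebra P A := g.toRingHom.toAlgebra
  haveI : IsScalarTower κ P A := IsScalarTower.of_algebraMap_eq fun c => (g.commutes c).symm
  haveI : Module.Finite P A := hfin
  obtain ⟨s, hs⟩ := (Module.Finite.fg_top : (⊤ : Submodule P A).FG)
  obtain ⟨I, hI, hmax⟩ := exists_maximal_linearIndepOn P (fun x : (s : Set A) => (x : A))
  let M := Submodule.span P ((fun x : (s : Set A) => (x : A)) '' I)
  have hc : ∀ x : (s : Set A), ∃ c : P, c ≠ 0 ∧ c • (x : A) ∈ M := fun x => by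
    by_cases hx : x ∈ I
    · exact ⟨1, one_ne_zero, by rw [one_smul]; exact Submodule.subset_span ⟨x, hx, rfl⟩⟩
    · exact hmax x hx
  choose c hc0 hc using hc
  let h' : P := ∏ x : (s : Set A), c x
  have hh' : h' ≠ 0 := Finset.prod_ne_zero_iff.mpr fun x _ => hc0 x
  have hmem : ∀ y : A, h' • y ∈ M := by
    intro y
    have hy : y ∈ Submodule.span P (s : Set A) := by rw [hs]; trivial
    induction hy using Submodule.span_induction with
    | mem z hz =>
      obtain ⟨d, hd⟩ := Finset.dvd_prod_of_mem c (Finset.mem_univ (⟨z, hz⟩ : (s : Set A)))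
      show (∏ x, c x) • z ∈ M
      rw [hd, mul_comm, mul_smul]
      exact M.smul_mem _ (hc ⟨z, hz⟩)
    | zero => rw [smul_zero]; exact zero_mem _
    | add u v _ _ hu hv => rw [smul_add]; exact add_mem hu hv
    | smul r u _ hu => rw [smul_comm]; exact M.smul_mem _ hu
  -- the embedding of a free module
  let v : I → A := fun i => (i.1 : A)
  have hv : LinearIndependent P v := hI
  let ι : (I → P) →ₗ[P] A := Fintype.linearCombination P v
  have hιinj : Function.Injective ι := linearIndependent_iff_injective_fintypeLinearCombination.mp hv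
  have hιr : ∀ y : A, ∃ w : I → P, ι w = h' • y := fun y => by
    have hr : LinearMap.range ι = M := by
      rw [Fintype.range_linearCombination]
      congr 1
      ext z
      exact ⟨fun ⟨i, e⟩ => ⟨i.1, i.2, e⟩, fun ⟨i, hi, e⟩ => ⟨⟨i, hi⟩, e⟩⟩
    rw [← LinearMap.mem_range, hr]
    exact hmem y
  let L : (I → MvPolynomial (Fin n) k) →+ k ⊗[κ] A :=
    { toFun := fun w => ∑ i, extHom k g (w i) * (1 ⊗ₜ v i)
      map_zero' := by simp
      map_add' := fun w w' => by simp [add_mul, Finset.sum_add_distrib] }
  let Φ : k ⊗[κ] (I → P) →ₗ[κ] (I → MvPolynomial (Fin n) k) :=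
    TensorProduct.lift
      (LinearMap.mk₂ κ (fun (c : k) (w : I → P) i => c • MvPolynomial.map (algebraMap κ k) (w i))
        (fun c c' w => funext fun i => add_smul _ _ _)
        (fun r c w => funext fun i => by simp [smul_assoc])
        (fun c w w' => funext fun i => by simp [smul_add])
        (fun r c w => funext fun i => by
          simp only [Pi.smul_apply]
          rw [MvPolynomial.smul_eq_C_mul (a := r), map_mul, MvPolynomial.map_C, ← MvPolynomial.smul_eq_C_mul,
            smul_comm c, algebraMap_smul]))
  have hLΦ : ∀ z, L (Φ z) = (ι.restrictScalars κ).lTensor k z := by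
    intro z
    induction z using TensorProduct.induction_on with
    | zero => simp
    | tmul c w =>
      simp only [L, Φ, AddMonoidHom.coe_mk, ZeroHom.coe_mk, TensorProduct.lift.tmul, LinearMap.mk₂_apply,
        map_smul, extHom_map, LinearMap.lTensor_tmul, LinearMap.restrictScalars_apply, ι,
        Fintype.linearCombination_apply, TensorProduct.tmul_sum, smul_tmul', smul_eq_mul, mul_one,
        Algebra.TensorProduct.tmul_mul_tmul]
      refine Finset.sum_congr rfl fun i _ => ?_
      rfl
    | add u v hu hv => rw [map_add, map_add, map_add, hu, hv]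
  have hΦ : Function.Surjective Φ := by
    intro w
    suffices H : ∀ (i : I) (q : MvPolynomial (Fin n) k), Pi.single i q ∈ LinearMap.range Φ by
      rw [← Finset.univ_sum_single w]
      exact Submodule.sum_mem _ fun i _ => H i _
    intro i q
    induction q using MvPolynomial.induction_on' with
    | monomial m c =>
      refine ⟨c ⊗ₜ Pi.single i (MvPolynomial.monomial m 1), funext fun j => ?_⟩
      by_cases hj : j = i
      · subst hj; simp [Φ, MvPolynomial.smul_monomial]
      · simp [Φ, Pi.single_eq_of_ne hj]
    | add p q hp hq => rw [Pi.single_add]; exact add_mem hp hq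
  have hLinj : Function.Injective L := by
    intro w w' hw
    obtain ⟨z, rfl⟩ := hΦ w
    obtain ⟨z', rfl⟩ := hΦ w'
    rw [hLΦ, hLΦ] at hw
    exact congrArg Φ (Module.Flat.lTensor_preserves_injective_linearMap (M := k) _
      (show Function.Injective (ι.restrictScalars κ) from hιinj) hw)
  have hrange : ∀ b : k ⊗[κ] A, ∃ z, (ι.restrictScalars κ).lTensor k z = ((1 : k) ⊗ₜ[κ] g h') * b := by
    intro b
    induction b using TensorProduct.induction_on with
    | zero => exact ⟨0, by simp⟩
    | tmul c y =>
      obtain ⟨w, hw⟩ := hιr y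
      refine ⟨c ⊗ₜ w, ?_⟩
      rw [LinearMap.lTensor_tmul, LinearMap.restrictScalars_apply, hw, Algebra.TensorProduct.tmul_mul_tmul,
        one_mul]
      rfl
    | add x y hx hy =>
      obtain ⟨z, hz⟩ := hx
      obtain ⟨z', hz'⟩ := hy
      exact ⟨z + z', by rw [map_add, hz, hz', mul_add]⟩
  -- `g h'` is regular on the extension
  have hreg : ∀ b : k ⊗[κ] A, ((1 : k) ⊗ₜ[κ] g h') * b = 0 → b = 0 := by
    intro b hb
    have hm : Function.Injective (LinearMap.mulLeft κ (g h')) := fun x y e =>
      mul_left_cancel₀ (fun h0 => hh' (hinj (h0.trans (map_zero g).symm))) e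
    refine Module.Flat.lTensor_preserves_injective_linearMap (M := k) _ hm ?_
    rw [map_zero]
    rw [← hb]
    clear hb
    induction b using TensorProduct.induction_on with
    | zero => simp
    | tmul c y => simp
    | add x y hx hy => rw [map_add, hx, hy, mul_add]
  apply hreg
  obtain ⟨z, hz⟩ := hrange a
  rw [← hz, ← hLΦ]
  have h0 : L (F • Φ z) = L 0 := by
    have : L (F • Φ z) = extHom k g F * L (Φ z) := by
      simp [L, Finset.mul_sum, mul_assoc]
    rw [this, hLΦ, hz, mul_left_comm, h, mul_zero, map_zero]
  have h1 : F • Φ z = 0 := hLinj h0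
  rw [(smul_eq_zero.mp h1).resolve_left hF, map_zero]

/-- Over a field extension, every prime lies above a prime that meets the polynomial ring trivially. -/
theorem exists_prime_le [IsDomain A] (g : MvPolynomial (Fin n) κ →ₐ[κ] A) (hinj : Function.Injective g)
    (hfin : g.Finite) (q : Ideal (k ⊗[κ] A)) [q.IsPrime] :
    ∃ Q : Ideal (k ⊗[κ] A), Q.IsPrime ∧ Q ≤ q ∧ Q.comap (extHom k g).toRingHom = ⊥ := by
  obtain ⟨Q, hQ, hle⟩ := Ideal.exists_minimalPrimes_le (show (⊥ : Ideal (k ⊗[κ] A)) ≤ q from bot_le)
  refine ⟨Q, hQ.1.1, hle, eq_bot_iff.mpr fun F hF => ?_⟩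
  by_contra hne
  exact Set.disjoint_left.mp (Ideal.disjoint_nonZeroDivisors_of_mem_minimalPrimes hQ) hF
    (mem_nonZeroDivisors_iff_right.mpr fun b hb => extHom_regular g hinj hfin hne (by rwa [mul_comm] at hb))

end Groth.Agent.SlicePt
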