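import Groth.Agent.JacDesc.Basic
import Groth.Agent.SlicePt.Tensor

/-!
# Slices through a point with the lifting property for generizations

If going down holds for all base changes to valuation rings, a Noether normalisation of an irreducible
fibre gives a quasi-finite slice to which all generizations of the base point lift.
-/

set_option autoImplicit false
set_option linter.style.haveILetI false
universe u

open TensorProduct MvPolynomial

namespace Groth.Agent.SlicePt

/-- Going down to the origin, for a domain quasi-finite over `V[y]`. -/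
theorem exists_prime_over_origin {V : Type u} [CommRing V] [IsDomain V] [ValuationRing V] {n : ℕ}
    {C : Type u} [CommRing C] [IsDomain C] [Algebra (MvPolynomial (Fin n) V) C]
    [Algebra V C] [IsScalarTower V (MvPolynomial (Fin n) V) C]
    [Algebra.FiniteType (MvPolynomial (Fin n) V) C]
    (hinj : Function.Injective (algebraMap (MvPolynomial (Fin n) V) C))
    (q : Ideal C) [q.IsPrime] (hqf : Algebra.WeaklyQuasiFiniteAt (MvPolynomial (Fin n) V) q)
    (hq : ∀ i, algebraMap (MvPolynomial (Fin n) V) C (MvPolynomial.X i) ∈ q) :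
    ∃ P : Ideal C, P.IsPrime ∧ P ≤ q ∧ P.comap (algebraMap V C) = ⊥ ∧
      ∀ i, algebraMap (MvPolynomial (Fin n) V) C (MvPolynomial.X i) ∈ P := by
  classical
  haveI : IsIntegrallyClosed V := inferInstance
  haveI : IsIntegrallyClosed (MvPolynomial (Fin n) V) := JacDesc.isIntegrallyClosed_mvPolynomial V n
  let ev : MvPolynomial (Fin n) V →ₐ[V] V := MvPolynomial.aeval 0
  let p0 : Ideal (MvPolynomial (Fin n) V) := RingHom.ker ev
  haveI : p0.IsPrime := RingHom.ker_isPrime _
  have hev : ∀ F, F - MvPolynomial.C (ev F) ∈ Ideal.span (Set.range (MvPolynomial.X : Fin n → MvPolynomial (Fin n) V)) := by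
    intro F
    induction F using MvPolynomial.induction_on with
    | C a => simp [ev]
    | add a b ha hb =>
      rw [map_add, map_add, add_sub_add_comm]
      exact add_mem ha hb
    | mul_X a i _ =>
      simp only [ev, map_mul, MvPolynomial.aeval_X, Pi.zero_apply, map_zero, mul_zero, sub_zero]
      exact Ideal.mul_mem_left _ _ (Ideal.subset_span ⟨i, rfl⟩)
  let D := integralClosure (MvPolynomial (Fin n) V) C
  obtain ⟨r, hrq, hrint, hr⟩ := Algebra.zariskisMainProperty_iff.mp
    (Algebra.ZariskisMainProperty.of_finiteType_of_weaklyQuasiFiniteAt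
      (R := MvPolynomial (Fin n) V) q)
  haveI : FaithfulSMul (MvPolynomial (Fin n) V) D :=
    (faithfulSMul_iff_algebraMap_injective _ _).mpr fun a b h => hinj (congrArg Subtype.val h)
  let qD : Ideal D := q.comap D.val.toRingHom
  have hp0 : p0 ≤ qD.comap (algebraMap (MvPolynomial (Fin n) V) D) := by
    intro F hF
    have h := hev F
    rw [show ev F = 0 from hF, map_zero, sub_zero] at h
    refine (Ideal.span_le (I := qD.comap _)).mpr ?_ h
    rintro _ ⟨i, rfl⟩
    exact hq i
  obtain ⟨PD, hPD, hPDp, hPDo⟩ := Ideal.exists_ideal_le_liesOver_of_le (p := p0)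
    (q := qD.comap (algebraMap (MvPolynomial (Fin n) V) D)) qD hp0
  haveI := hPDp
  let ι : D →+* C := D.val.toRingHom
  have hrP : (⟨r, hrint⟩ : D) ∉ PD := fun h => hrq (hPD h)
  have hcomap : (PD.map ι).comap ι = PD := by
    refine le_antisymm (fun x hx => ?_) Ideal.le_comap_map
    have key : ∀ y : C, y ∈ PD.map ι → ∃ m, ∃ z ∈ PD, ι z = r ^ m * y := by
      intro y hy
      induction hy using Submodule.span_induction with
      | mem y hy => obtain ⟨z, hz, rfl⟩ := hy; exact ⟨0, z, hz, by simp⟩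
      | zero => exact ⟨0, 0, zero_mem _, by simp⟩
      | add a b _ _ iha ihb =>
        obtain ⟨m, za, hza, ea⟩ := iha
        obtain ⟨k, zb, hzb, eb⟩ := ihb
        refine ⟨m + k, (⟨r, hrint⟩ : D) ^ k * za + (⟨r, hrint⟩ : D) ^ m * zb,
          add_mem (PD.mul_mem_left _ hza) (PD.mul_mem_left _ hzb), ?_⟩
        rw [map_add, map_mul, map_mul, map_pow, map_pow, ea, eb]
        change r ^ k * _ + r ^ m * _ = _
        ring
      | smul c b _ ihb =>
        obtain ⟨m, zb, hzb, eb⟩ := ihb
        obtain ⟨k, hk⟩ := hr c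
        refine ⟨k + m, (⟨r ^ k * c, hk⟩ : D) * zb, PD.mul_mem_left _ hzb, ?_⟩
        rw [map_mul, eb, smul_eq_mul]
        change r ^ k * c * _ = _
        ring
    obtain ⟨m, z, hz, e⟩ := key _ hx
    have : z = (⟨r, hrint⟩ : D) ^ m * x := Subtype.ext (by simpa [ι] using e)
    rw [this] at hz
    exact (hPDp.mem_or_mem hz).resolve_left fun h => hrP (hPDp.mem_of_pow_mem m h)
  obtain ⟨P, hPprime, hP⟩ := (Ideal.comap_map_eq_self_iff_of_isPrime _).mp hcomap
  haveI := hPprime
  have hPle : P ≤ q := by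
    intro x hx
    obtain ⟨k, hk⟩ := hr x
    have h1 : (⟨r ^ k * x, hk⟩ : D) ∈ PD := by
      rw [← hP]
      exact P.mul_mem_left _ hx
    exact ((inferInstance : q.IsPrime).mem_or_mem (hPD h1 : r ^ k * x ∈ q)).resolve_left
      fun h => hrq ((inferInstance : q.IsPrime).mem_of_pow_mem k h)
  have hover : P.comap (algebraMap (MvPolynomial (Fin n) V) C) = p0 := by
    rw [hPDo.over, Ideal.under_def, ← hP, Ideal.comap_comap]
    rfl
  refine ⟨P, hPprime, hPle, ?_, fun i => ?_⟩
  · rw [IsScalarTower.algebraMap_eq V (MvPolynomial (Fin n) V) C, ← Ideal.comap_comap, hover]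
    refine (Submodule.eq_bot_iff _).mpr (fun a ha => ?_)
    simpa [p0, ev] using ha
  · rw [← Ideal.mem_comap, hover]
    simp [p0, ev]

variable {R B : Type u} [CommRing R] [CommRing B] [Algebra R B] (p : Ideal R) [p.IsPrime]

/-- The reduced fibre. -/
def RedFibre (B : Type u) [CommRing B] [Algebra R B] (p : Ideal R) [p.IsPrime] : Type u :=
  p.Fiber B ⧸ nilradical (p.Fiber B)

noncomputable instance : CommRing (RedFibre B p) :=
  inferInstanceAs (CommRing (p.Fiber B ⧸ nilradical (p.Fiber B)))

/-- The quotient map. -/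
noncomputable def mkRed : p.Fiber B →+* RedFibre B p := Ideal.Quotient.mk _

noncomputable instance : Algebra p.ResidueField (RedFibre B p) :=
  ((mkRed p).comp (algebraMap p.ResidueField (p.Fiber B))).toAlgebra

/-- The quotient map, as a map of algebras over the residue field. -/
noncomputable def mkRedₐ : p.Fiber B →ₐ[p.ResidueField] RedFibre B p :=
  { mkRed p with commutes' := fun _ => rfl }

theorem mkRed_surjective : Function.Surjective (mkRed (B := B) p) := Ideal.Quotient.mk_surjective

theorem ker_mkRed : RingHom.ker (mkRed (B := B) p) = nilradical (p.Fiber B) := Ideal.mk_ker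

instance [(nilradical (p.Fiber B)).IsPrime] : IsDomain (RedFibre B p) :=
  inferInstanceAs (IsDomain (p.Fiber B ⧸ nilradical (p.Fiber B)))

/-- The map to the reduced fibre. -/
noncomputable def toRedFibre : B →+* RedFibre B p :=
  (mkRed p).comp Algebra.TensorProduct.includeRight.toRingHom

theorem exists_scale (a : RedFibre B p) :
    ∃ (c : p.ResidueFieldˣ) (b : B), toRedFibre p b = (c : p.ResidueField) • a := by
  obtain ⟨x, rfl⟩ := mkRed_surjective p a
  obtain ⟨s, hs, b, hb⟩ := Ideal.Fiber.exists_smul_eq_one_tmul _ x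
  refine ⟨Units.mk0 (algebraMap R p.ResidueField s) (fun h => hs ((Ideal.algebraMap_residueField_eq_zero).mp h)), b, ?_⟩
  show mkRedₐ p ((1 : p.ResidueField) ⊗ₜ[R] b) = _
  rw [← hb, Units.val_mk0]
  show _ = (algebraMap R p.ResidueField s) • mkRedₐ p x
  rw [← map_smul, algebraMap_smul]

/-- A slice of a domain over a valuation ring: a point of the generic fibre with vanishing coordinates. -/
theorem exists_lift_domain {V E : Type u} [CommRing V] [IsDomain V] [ValuationRing V] {n : ℕ}
    [CommRing E] [IsDomain E] [Algebra (MvPolynomial (Fin n) V) E] [Algebra V E]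
    [IsScalarTower V (MvPolynomial (Fin n) V) E] [Algebra.FiniteType (MvPolynomial (Fin n) V) E]
    (hinj : Function.Injective (algebraMap (MvPolynomial (Fin n) V) E)) (qE : Ideal E) [qE.IsPrime]
    (hX : ∀ i, algebraMap (MvPolynomial (Fin n) V) E (MvPolynomial.X i) ∈ qE)
    (hm : (IsLocalRing.maximalIdeal V).map (algebraMap V E) ≤ qE)
    (hint : ∀ x : E, ∃ G : Polynomial (MvPolynomial (Fin n) V), G.Monic ∧
      Polynomial.eval₂ (algebraMap (MvPolynomial (Fin n) V) E) x G ∈
        (IsLocalRing.maximalIdeal V).map (algebraMap V E)) :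
    ∃ P : Ideal E, P.IsPrime ∧ P ≤ qE ∧ P.comap (algebraMap V E) = ⊥ ∧
      ∀ i, algebraMap (MvPolynomial (Fin n) V) E (MvPolynomial.X i) ∈ P := by
  let P0 := MvPolynomial (Fin n) V
  let I := (qE.under P0).map (algebraMap P0 E)
  have hmI : (IsLocalRing.maximalIdeal V).map (algebraMap V E) ≤ I := Ideal.map_le_iff_le_comap.mpr fun v hv => by
    show algebraMap V E v ∈ I
    rw [IsScalarTower.algebraMap_apply V P0 E]
    refine Ideal.mem_map_of_mem _ ?_
    show algebraMap P0 E (algebraMap V P0 v) ∈ qE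
    rw [← IsScalarTower.algebraMap_apply]
    exact hm (Ideal.mem_map_of_mem _ hv)
  haveI : Algebra.IsIntegral P0 (E ⧸ I) := ⟨fun z => by
    obtain ⟨x, rfl⟩ := Ideal.Quotient.mk_surjective z
    obtain ⟨G, hG, hGx⟩ := hint x
    refine ⟨G, hG, ?_⟩
    rw [← Ideal.Quotient.algebraMap_eq, IsScalarTower.algebraMap_eq P0 E (E ⧸ I),
      ← Polynomial.hom_eval₂, Ideal.Quotient.algebraMap_eq, Ideal.Quotient.eq_zero_iff_mem]
    exact hmI hGx⟩
  haveI : Algebra.FiniteType P0 (E ⧸ I) :=
    Algebra.FiniteType.of_surjective (Ideal.Quotient.mkₐ P0 I) Ideal.Quotient.mk_surjective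
  haveI : Module.Finite P0 (E ⧸ I) := Algebra.IsIntegral.finite
  exact exists_prime_over_origin (V := V) (n := n) (C := E) hinj qE inferInstance hX

/-- Generizations lift to the slice. -/
theorem exists_lift [Algebra.FiniteType R B] [(nilradical (p.Fiber B)).IsPrime] {n : ℕ} (t : Fin n → B)
    (g : MvPolynomial (Fin n) p.ResidueField →ₐ[p.ResidueField] RedFibre B p) (hg : Function.Injective g)
    (hgf : g.Finite) (hgX : ∀ i, g (MvPolynomial.X i) = toRedFibre p (t i))
    (V : Type u) [CommRing V] [IsDomain V] [ValuationRing V] [Algebra R V]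
    (hV : (IsLocalRing.maximalIdeal V).comap (algebraMap R V) = p)
    (hgo : ∀ Q : Ideal (V ⊗[R] B), Q.IsPrime → Q.comap (algebraMap V (V ⊗[R] B)) = IsLocalRing.maximalIdeal V →
        ∃ Q' : Ideal (V ⊗[R] B), Q'.IsPrime ∧ Q' ≤ Q ∧ Q'.comap (algebraMap V (V ⊗[R] B)) = ⊥)
    (q : Ideal (V ⊗[R] B)) [hq : q.IsPrime]
    (hqm : q.comap (algebraMap V (V ⊗[R] B)) = IsLocalRing.maximalIdeal V)
    (hqt : ∀ i, (1 : V) ⊗ₜ[R] t i ∈ q) :
    ∃ P : Ideal (V ⊗[R] B), P.IsPrime ∧ P ≤ q ∧ P.comap (algebraMap V (V ⊗[R] B)) = ⊥ ∧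
      ∀ i, (1 : V) ⊗ₜ[R] t i ∈ P := by
  classical
  let κ := p.ResidueField
  let A := RedFibre B p
  let C := V ⊗[R] B
  let k := IsLocalRing.ResidueField V
  let χ : κ →+* k := Ideal.ResidueField.lift p ((IsLocalRing.residue V).comp (algebraMap R V))
    (by rw [← RingHom.comap_ker, IsLocalRing.ker_residue, hV])
    (fun r hr => Ne.isUnit fun h => hr (hV.le ((IsLocalRing.residue_eq_zero_iff _).mp h)))
  have hχ : ∀ r, χ (algebraMap R κ r) = IsLocalRing.residue V (algebraMap R V r) := fun r =>
    Ideal.ResidueField.lift_algebraMap ..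
  letI := χ.toAlgebra
  let A' := k ⊗[κ] A
  let ψV : V →+* A' := (algebraMap k A').comp (IsLocalRing.residue V)
  let ψB : B →+* A' := (Algebra.TensorProduct.includeRight : A →ₐ[κ] A').toRingHom.comp (toRedFibre p)
  have hψ : ∀ r, ψB (algebraMap R B r) = ψV (algebraMap R V r) := fun r => by
    show (Algebra.TensorProduct.includeRight : A →ₐ[κ] A') (toRedFibre p (algebraMap R B r)) =
      algebraMap k A' (IsLocalRing.residue V (algebraMap R V r))
    rw [← hχ]
    have e1 : toRedFibre p (algebraMap R B r) = algebraMap κ A (algebraMap R κ r) := by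
      show mkRed p ((Algebra.TensorProduct.includeRight : B →ₐ[R] κ ⊗[R] B) (algebraMap R B r)) = _
      rw [AlgHom.commutes]
      rfl
    rw [e1, AlgHom.commutes]
    exact IsScalarTower.algebraMap_apply κ k A' _
  have hRA : ∀ r, algebraMap R A' r = ψV (algebraMap R V r) := fun r => rfl
  let ψ : C →ₐ[R] A' := Algebra.TensorProduct.lift
    ({ ψV with commutes' := fun r => (hRA r).symm } : V →ₐ[R] A')
    ({ ψB with commutes' := fun r => (hψ r).trans (hRA r).symm } : B →ₐ[R] A') (fun _ _ => Commute.all _ _)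
  have hψb : ∀ b, ψ ((1 : V) ⊗ₜ[R] b) = ψB b := fun b => by
    rw [Algebra.TensorProduct.lift_tmul, map_one, one_mul]; rfl
  have hψv : ∀ v, ψ (algebraMap V C v) = ψV v := fun v => by
    show ψ (v ⊗ₜ[R] (1 : B)) = _
    rw [Algebra.TensorProduct.lift_tmul, map_one, mul_one]; rfl
  -- every prime of the closed fibre comes from `A'`
  have hfac : ∀ Q : Ideal C, Q.IsPrime → Q.comap (algebraMap V C) = IsLocalRing.maximalIdeal V →
      ∃ Q' : Ideal A', Q'.IsPrime ∧ Q'.comap ψ.toRingHom = Q := by
    intro Q hQ hQm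
    haveI := hQ
    let Ω := Q.ResidueField
    let fV : V →+* Ω := (algebraMap C Ω).comp (algebraMap V C)
    let fk : k →+* Ω := Ideal.Quotient.lift _ fV fun v hv =>
      (Ideal.algebraMap_residueField_eq_zero (I := Q)).mpr (hQm.ge hv)
    letI : Algebra κ Ω := (fk.comp χ).toAlgebra
    letI : Algebra R Ω := (fV.comp (algebraMap R V)).toAlgebra
    haveI : IsScalarTower R κ Ω := IsScalarTower.of_algebraMap_eq fun r => by
      show fV (algebraMap R V r) = fk (χ (algebraMap R κ r))
      rw [hχ]; rfl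
    let fB : B →ₐ[R] Ω :=
      { (algebraMap C Ω).comp (Algebra.TensorProduct.includeRight : B →ₐ[R] C).toRingHom with
        commutes' := fun r => by
          show algebraMap C Ω ((Algebra.TensorProduct.includeRight : B →ₐ[R] C) (algebraMap R B r)) = _
          rw [AlgHom.commutes]
          rfl }
    let fF : p.Fiber B →ₐ[κ] Ω := Algebra.TensorProduct.lift (Algebra.ofId κ Ω) fB (fun _ _ => Commute.all _ _)
    let fA : A →ₐ[κ] Ω :=
      { (Ideal.Quotient.lift (nilradical (p.Fiber B)) fF.toRingHom fun x hx => (IsNilpotent.map hx fF).eq_zero : A →+* Ω) with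
        commutes' := fun c => fF.commutes c }
    let fA' : A' →ₐ[κ] Ω := Algebra.TensorProduct.lift
      ({ fk with commutes' := fun _ => rfl } : k →ₐ[κ] Ω) fA (fun _ _ => Commute.all _ _)
    refine ⟨RingHom.ker fA'.toRingHom, RingHom.ker_isPrime _, ?_⟩
    have hcomp : fA'.toRingHom.comp ψ.toRingHom = algebraMap C Ω := by
      refine RingHom.ext fun x => ?_
      induction x using TensorProduct.induction_on with
      | zero => simp
      | tmul v b =>
        show fA' (ψ (v ⊗ₜ b)) = _
        rw [Algebra.TensorProduct.lift_tmul]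
        show fA' ((IsLocalRing.residue V v ⊗ₜ[κ] (1 : A)) * ((1 : k) ⊗ₜ[κ] toRedFibre p b)) = _
        rw [map_mul, Algebra.TensorProduct.lift_tmul, Algebra.TensorProduct.lift_tmul, map_one, map_one,
          mul_one, one_mul]
        show fk (IsLocalRing.residue V v) * fF ((1 : κ) ⊗ₜ[R] b) = _
        rw [Algebra.TensorProduct.lift_tmul, map_one, one_mul]
        show algebraMap C Ω (v ⊗ₜ (1 : B)) * algebraMap C Ω ((1 : V) ⊗ₜ b) = _
        rw [← map_mul, Algebra.TensorProduct.tmul_mul_tmul, mul_one, one_mul]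
      | add a b ha hb => rw [map_add, map_add, ha, hb]
    rw [RingHom.comap_ker, hcomp, Ideal.ker_algebraMap_residueField]
  obtain ⟨q', hq', hq'q⟩ := hfac q hq hqm
  obtain ⟨Q0, hQ0, hQ0le, hQ0b⟩ := exists_prime_le (k := k) g hg hgf q'
  haveI := hQ0
  haveI := hq'
  let Q1 : Ideal C := Q0.comap ψ.toRingHom
  have hQ1m : Q1.comap (algebraMap V C) = IsLocalRing.maximalIdeal V := by
    refine ((IsLocalRing.maximalIdeal.isMaximal V).eq_of_le (Ideal.comap_ne_top _ Ideal.IsPrime.ne_top')
      fun v hv => ?_).symm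
    show ψ (algebraMap V C v) ∈ Q0
    rw [hψv]
    show algebraMap k A' (IsLocalRing.residue V v) ∈ Q0
    rw [(IsLocalRing.residue_eq_zero_iff v).mpr hv, map_zero]
    exact zero_mem _
  obtain ⟨Q, hQ, hQle, hQbot⟩ := hgo Q1 inferInstance hQ1m
  haveI := hQ
  let P0 := MvPolynomial (Fin n) V
  let φ : P0 →ₐ[V] C := aeval fun i => (1 : V) ⊗ₜ[R] t i
  have hφC : ∀ a, φ (MvPolynomial.C a) = algebraMap V C a := fun a => φ.commutes a
  have hφX : ∀ i, φ (MvPolynomial.X i) = (1 : V) ⊗ₜ[R] t i := fun i => MvPolynomial.aeval_X _ i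
  let red : P0 →+* MvPolynomial (Fin n) k := MvPolynomial.map (IsLocalRing.residue V)
  have hsq : ∀ F, ψ (φ F) = extHom k g (red F) := by
    have : ψ.toRingHom.comp φ.toRingHom = (extHom k g).toRingHom.comp red := by
      refine MvPolynomial.ringHom_ext (fun a => ?_) fun i => ?_
      · simp only [RingHom.comp_apply, AlgHom.toRingHom_eq_coe, RingHom.coe_coe, red, hφC, hψv,
          MvPolynomial.map_C, extHom, MvPolynomial.aeval_C]
        rfl
      · simp only [RingHom.comp_apply, AlgHom.toRingHom_eq_coe, RingHom.coe_coe, red, hφX, hψb,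
          MvPolynomial.map_X, extHom, MvPolynomial.aeval_X, hgX]
        rfl
    exact fun F => RingHom.congr_fun this F
  have hφQ : ∀ F, φ F ∈ Q → F = 0 := by
    intro F hF
    by_contra hne
    obtain ⟨c, hc, F', rfl, j, hj⟩ := JacDesc.exists_primitive F hne
    rw [map_mul] at hF
    have hF' : φ F' ∈ Q := (hQ.mem_or_mem hF).resolve_left fun h => hc (by
      have h0 : algebraMap V C c ∈ Q := hφC c ▸ h
      have : c ∈ Q.comap (algebraMap V C) := h0
      rw [hQbot] at this
      exact Ideal.mem_bot.mp this)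
    have h1 : red F' ∈ Q0.comap (extHom k g).toRingHom := by
      show extHom k g (red F') ∈ Q0
      rw [← hsq]
      exact hQle hF'
    rw [hQ0b, Ideal.mem_bot] at h1
    have h3 := congrArg (MvPolynomial.coeff j) h1
    rw [MvPolynomial.coeff_map, hj, map_one, MvPolynomial.coeff_zero] at h3
    exact one_ne_zero h3
  letI : Algebra P0 (C ⧸ Q) := ((Ideal.Quotient.mk Q).comp φ.toRingHom).toAlgebra
  haveI : IsScalarTower V P0 (C ⧸ Q) := IsScalarTower.of_algebraMap_eq fun a => by
    rw [RingHom.algebraMap_toAlgebra, RingHom.comp_apply]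
    exact congrArg (Ideal.Quotient.mk Q) (φ.commutes a).symm
  haveI : Algebra.FiniteType V (C ⧸ Q) :=
    Algebra.FiniteType.of_surjective (Ideal.Quotient.mkₐ V Q) Ideal.Quotient.mk_surjective
  haveI : Algebra.FiniteType P0 (C ⧸ Q) := .of_restrictScalars_finiteType V _ _
  have hQq : Q ≤ q := hQle.trans (le_of_le_of_eq (Ideal.comap_mono hQ0le) hq'q)
  let qE : Ideal (C ⧸ Q) := q.map (Ideal.Quotient.mk Q)
  haveI : qE.IsPrime := Ideal.map_isPrime_of_surjective Ideal.Quotient.mk_surjective (by simpa using hQq)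
  have hmem : ∀ x : C, Ideal.Quotient.mk Q x ∈ qE ↔ x ∈ q := by
    intro x
    rw [← Ideal.mem_comap, Ideal.comap_map_of_surjective _ Ideal.Quotient.mk_surjective,
      ← RingHom.ker_eq_comap_bot, Ideal.mk_ker, sup_eq_left.mpr hQq]
  have hmap : (IsLocalRing.maximalIdeal V).map (algebraMap V (C ⧸ Q)) =
      ((IsLocalRing.maximalIdeal V).map (algebraMap V C)).map (Ideal.Quotient.mk Q) := by
    rw [Ideal.map_map]; rfl
  have hkerψ : ∀ y, ψ y = 0 → y ∈ ((IsLocalRing.maximalIdeal V).map (algebraMap V C)).radical := by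
    intro y hy
    rw [Ideal.radical_eq_sInf, Ideal.mem_sInf]
    rintro Q2 ⟨hle, hQ2⟩
    obtain ⟨Q2', -, rfl⟩ := hfac Q2 hQ2 (((IsLocalRing.maximalIdeal.isMaximal V).eq_of_le
      (Ideal.comap_ne_top _ hQ2.ne_top) (Ideal.map_le_iff_le_comap.mp hle)).symm)
    show ψ y ∈ Q2'
    rw [hy]; exact zero_mem _
  have hgint := extHom_integral (k := k) g (RingHom.IsIntegral.of_finite hgf)
  have hredsurj : Function.Surjective red := MvPolynomial.map_surjective _ IsLocalRing.residue_surjective
  obtain ⟨P, hP, hPle, hPbot, hPX⟩ := exists_lift_domain (V := V) (n := n) (E := C ⧸ Q)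
    (fun a b h => sub_eq_zero.mp (hφQ _ (by
      rw [← Ideal.Quotient.eq_zero_iff_mem, map_sub, map_sub, sub_eq_zero]; exact h))) qE
    (fun i => by
      show Ideal.Quotient.mk Q (φ (MvPolynomial.X i)) ∈ qE
      rw [hmem, hφX]
      exact hqt i)
    (Ideal.map_le_iff_le_comap.mpr fun v hv => by
      show Ideal.Quotient.mk Q (algebraMap V C v) ∈ qE
      rw [hmem, ← Ideal.mem_comap, hqm]
      exact hv)
    (fun z => by
      obtain ⟨x, rfl⟩ := Ideal.Quotient.mk_surjective z
      obtain ⟨G, hG, hGx⟩ := hgint (ψ x)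
      obtain ⟨G', hG'map, -, hG'⟩ := Polynomial.lifts_and_degree_eq_and_monic
        ((Polynomial.lifts_iff_coeff_lifts G).mpr fun i => hredsurj _) hG
      have h0 : ψ (Polynomial.eval₂ φ.toRingHom x G') = 0 := by
        show ψ.toRingHom _ = 0
        rw [Polynomial.hom_eval₂, show ψ.toRingHom.comp φ.toRingHom = (extHom k g).toRingHom.comp red from
          RingHom.ext hsq, ← Polynomial.eval₂_map, hG'map]
        exact hGx
      obtain ⟨N, hN⟩ := hkerψ _ h0
      refine ⟨G' ^ N, hG'.pow N, ?_⟩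
      rw [RingHom.algebraMap_toAlgebra, ← Polynomial.hom_eval₂, Polynomial.eval₂_pow, hmap]
      exact Ideal.mem_map_of_mem _ hN)
  haveI := hP
  refine ⟨P.comap (Ideal.Quotient.mk Q), inferInstance, fun x hx => (hmem x).mp (hPle hx), ?_, fun i => ?_⟩
  · rw [Ideal.comap_comap]; exact hPbot
  · have h2 : Ideal.Quotient.mk Q (φ (MvPolynomial.X i)) ∈ P := hPX i
    rw [hφX] at h2
    exact h2

/-- Slices: a quasi-finite closed subset of the fibre to which generizations of the base point lift. -/
theorem exists_slice [Algebra.FiniteType R B] (hdom : (nilradical (p.Fiber B)).IsPrime)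
    (hgo : ∀ (V : Type u) [CommRing V] [IsDomain V] [ValuationRing V] [Algebra R V],
      (IsLocalRing.maximalIdeal V).comap (algebraMap R V) = p →
      ∀ Q : Ideal (V ⊗[R] B), Q.IsPrime → Q.comap (algebraMap V (V ⊗[R] B)) = IsLocalRing.maximalIdeal V →
        ∃ Q' : Ideal (V ⊗[R] B), Q'.IsPrime ∧ Q' ≤ Q ∧ Q'.comap (algebraMap V (V ⊗[R] B)) = ⊥) :
    ∃ (n : ℕ) (t : Fin n → B),
      (∃ q : PrimeSpectrum B, q.asIdeal.comap (algebraMap R B) = p ∧ ∀ i, t i ∈ q.asIdeal) ∧
      {q : PrimeSpectrum B | q.asIdeal.comap (algebraMap R B) = p ∧ ∀ i, t i ∈ q.asIdeal}.Finite ∧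
      ∀ (V : Type u) [CommRing V] [IsDomain V] [ValuationRing V] [Algebra R V],
        (IsLocalRing.maximalIdeal V).comap (algebraMap R V) = p →
        ∀ q : Ideal (V ⊗[R] B), q.IsPrime → q.comap (algebraMap V (V ⊗[R] B)) = IsLocalRing.maximalIdeal V →
          (∀ i, (1 : V) ⊗ₜ[R] t i ∈ q) →
          ∃ P : Ideal (V ⊗[R] B), P.IsPrime ∧ P ≤ q ∧ P.comap (algebraMap V (V ⊗[R] B)) = ⊥ ∧
            ∀ i, (1 : V) ⊗ₜ[R] t i ∈ P := by
  classical
  haveI := hdom
  let κ := p.ResidueField
  let A := RedFibre B p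
  haveI : Algebra.FiniteType κ (p.Fiber B) := inferInstance
  haveI : Algebra.FiniteType κ A :=
    Algebra.FiniteType.of_surjective (mkRedₐ p) (mkRed_surjective p)
  obtain ⟨n, g₀, hg₀, hg₀f⟩ := exists_finite_inj_algHom_of_fg κ A
  choose c t ht using fun i => exists_scale p (g₀ (MvPolynomial.X i))
  let e : MvPolynomial (Fin n) κ ≃ₐ[κ] MvPolynomial (Fin n) κ :=
    AlgEquiv.ofAlgHom (aeval fun i => (c i : κ) • MvPolynomial.X i)
      (aeval fun i => ((c i)⁻¹ : κˣ).val • MvPolynomial.X i)
      (MvPolynomial.algHom_ext fun i => by simp [smul_smul])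
      (MvPolynomial.algHom_ext fun i => by simp [smul_smul])
  let g : MvPolynomial (Fin n) κ →ₐ[κ] A := g₀.comp e.toAlgHom
  have hg : Function.Injective g := hg₀.comp e.injective
  have hgf : g.Finite := AlgHom.Finite.comp hg₀f (AlgHom.Finite.of_surjective e.toAlgHom e.surjective)
  have hgX : ∀ i, g (MvPolynomial.X i) = toRedFibre p (t i) := fun i => by
    rw [ht]
    simp [g, e]
  let o : Ideal (MvPolynomial (Fin n) κ) := RingHom.ker (aeval (R := κ) (0 : Fin n → κ))
  haveI : o.IsPrime := RingHom.ker_isPrime _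
  letI : Algebra (MvPolynomial (Fin n) κ) A := g.toRingHom.toAlgebra
  haveI : Module.Finite (MvPolynomial (Fin n) κ) A := hgf
  refine ⟨n, t, ?_, ?_, ?_⟩
  · obtain ⟨QA, -, hQA, hQAo⟩ := Ideal.exists_ideal_over_prime_of_isIntegral o (⊥ : Ideal A)
      (by rw [← RingHom.ker_eq_comap_bot]; exact ((RingHom.injective_iff_ker_eq_bot _).mp hg).le.trans bot_le)
    haveI := hQA
    refine ⟨⟨QA.comap (toRedFibre p), inferInstance⟩, ?_, fun i => ?_⟩
    · ext r
      show toRedFibre p (algebraMap R B r) ∈ QA ↔ r ∈ p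
      have e1 : toRedFibre p (algebraMap R B r) = algebraMap κ A (algebraMap R κ r) := by
        show mkRed p ((Algebra.TensorProduct.includeRight : B →ₐ[R] κ ⊗[R] B) (algebraMap R B r)) = _
        rw [AlgHom.commutes]
        rfl
      rw [e1, ← Ideal.algebraMap_residueField_eq_zero (I := p)]
      refine ⟨fun h => ?_, fun h => by rw [h, map_zero]; exact zero_mem _⟩
      by_contra hne
      exact hQA.ne_top (Ideal.eq_top_of_isUnit_mem _ h ((Ne.isUnit hne).map _))
    · show toRedFibre p (t i) ∈ QA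
      rw [← hgX]
      have : MvPolynomial.X i ∈ QA.comap g.toRingHom := by
        rw [show QA.comap g.toRingHom = o from hQAo]; simp [o]
      exact this
  · have hfin : {q : PrimeSpectrum A | q.asIdeal.comap g.toRingHom = o}.Finite := by
      refine Set.Finite.subset (Algebra.QuasiFinite.finite_comap_preimage_singleton
        (R := MvPolynomial (Fin n) κ) (S := A) ⟨o, inferInstance⟩) fun q hq => PrimeSpectrum.ext hq
    refine (hfin.image (fun q => (⟨q.asIdeal.comap (toRedFibre p), inferInstance⟩ : PrimeSpectrum B))).subset ?_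
    rintro q ⟨hqp, hqt⟩
    haveI : q.asIdeal.LiesOver p := ⟨hqp.symm⟩
    let qF : PrimeSpectrum (p.Fiber B) :=
      PrimeSpectrum.primesOverOrderIsoFiber R B p ⟨q.asIdeal, inferInstance, inferInstance⟩
    have hqF : qF.asIdeal.comap Algebra.TensorProduct.includeRight.toRingHom = q.asIdeal :=
      congr($((PrimeSpectrum.primesOverOrderIsoFiber R B p).symm_apply_apply ⟨q.asIdeal, inferInstance, inferInstance⟩).1)
    have hn : nilradical (p.Fiber B) ≤ qF.asIdeal := nilradical_le_prime _
    let qA : Ideal A := qF.asIdeal.map (mkRed p)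
    haveI : qA.IsPrime := Ideal.map_isPrime_of_surjective (mkRed_surjective p) (by rw [ker_mkRed]; exact hn)
    have hqA : qA.comap (toRedFibre p) = q.asIdeal := by
      rw [← hqF, toRedFibre, ← Ideal.comap_comap, Ideal.comap_map_of_surjective _ (mkRed_surjective p),
        ← RingHom.ker_eq_comap_bot, ker_mkRed, sup_eq_left.mpr hn]
    refine ⟨⟨qA, inferInstance⟩, ?_, PrimeSpectrum.ext hqA⟩
    have hle : o ≤ qA.comap g.toRingHom := by
      intro F hF
      have hev : ∀ G, G - MvPolynomial.C (aeval (R := κ) (0 : Fin n → κ) G) ∈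
          Ideal.span (Set.range (MvPolynomial.X : Fin n → MvPolynomial (Fin n) κ)) := fun G => by
        induction G using MvPolynomial.induction_on with
        | C a => simp
        | add a b ha hb =>
          rw [map_add, map_add, add_sub_add_comm]
          exact add_mem ha hb
        | mul_X a i _ =>
          simp only [map_mul, MvPolynomial.aeval_X, Pi.zero_apply, map_zero, mul_zero, sub_zero]
          exact Ideal.mul_mem_left _ _ (Ideal.subset_span ⟨i, rfl⟩)
      have hs := hev F
      rw [show aeval (R := κ) (0 : Fin n → κ) F = 0 from hF, map_zero, sub_zero] at hs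
      refine Ideal.span_le.mpr ?_ hs
      rintro _ ⟨i, rfl⟩
      show g (MvPolynomial.X i) ∈ qA
      rw [hgX, ← Ideal.mem_comap, hqA]
      exact hqt i
    haveI : o.IsMaximal := RingHom.ker_isMaximal_of_surjective _ fun x => ⟨MvPolynomial.C x, by simp⟩
    exact ((inferInstance : o.IsMaximal).eq_of_le (Ideal.comap_ne_top _ Ideal.IsPrime.ne_top') hle).symm
  exact fun V _ _ _ _ hV q hq hqm hqt => exists_lift p t g hg hgf hgX V hV (hgo V hV) q (hq := hq) hqm hqt

end Groth.Agent.SlicePt
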