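import Groth.Agent.SlicePt.Through

/-!
# Lifting generizations along quasi-finite maps to affine space
-/

set_option autoImplicit false
set_option linter.style.haveILetI false
universe u

open TensorProduct MvPolynomial

namespace Groth.Agent.SlicePt

variable {R B : Type u} [CommRing R] [CommRing B] [Algebra R B] (p : Ideal R) [p.IsPrime]

/-- The comparison of the closed fibre over a valuation ring with an irreducible part of the fibre. -/
theorem exists_closedFibreMap (Q₀ : Ideal (p.Fiber B)) [Q₀.IsPrime]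
    (V : Type u) [CommRing V] [IsDomain V] [ValuationRing V] [Algebra R V]
    (hV : (IsLocalRing.maximalIdeal V).comap (algebraMap R V) = p) :
    ∃ (_ : Algebra p.ResidueField (IsLocalRing.ResidueField V))
      (ψ : V ⊗[R] B →+* IsLocalRing.ResidueField V ⊗[p.ResidueField] QuotFib p Q₀),
      Function.Surjective ψ ∧
      (∀ v, ψ (algebraMap V (V ⊗[R] B) v) = algebraMap (IsLocalRing.ResidueField V) _ (IsLocalRing.residue V v)) ∧
      (∀ b, ψ ((1 : V) ⊗ₜ[R] b) = 1 ⊗ₜ[p.ResidueField] mkQuot p Q₀ (toFib p b)) ∧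
      ∀ Q : Ideal (V ⊗[R] B), Q.IsPrime → Q.comap (algebraMap V (V ⊗[R] B)) = IsLocalRing.maximalIdeal V →
        Q₀.comap (toFib p) ≤ Q.comap (Algebra.TensorProduct.includeRight : B →ₐ[R] V ⊗[R] B).toRingHom →
        ∃ Q' : Ideal (IsLocalRing.ResidueField V ⊗[p.ResidueField] QuotFib p Q₀),
          Q'.IsPrime ∧ Q'.comap ψ = Q := by
  classical
  let κ := p.ResidueField
  let A := QuotFib p Q₀
  let toA : B →+* A := (mkQuot p Q₀).comp (toFib p)
  let C := V ⊗[R] B
  let k := IsLocalRing.ResidueField V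
  let χ : κ →+* k := Ideal.ResidueField.lift p ((IsLocalRing.residue V).comp (algebraMap R V))
    (by rw [← RingHom.comap_ker, IsLocalRing.ker_residue, hV])
    (fun r hr => Ne.isUnit fun h => hr (hV.le ((IsLocalRing.residue_eq_zero_iff _).mp h)))
  have hχ : ∀ r, χ (algebraMap R κ r) = IsLocalRing.residue V (algebraMap R V r) := fun r =>
    Ideal.ResidueField.lift_algebraMap ..
  letI := χ.toAlgebra
  let A' := k ⊗[κ] A
  let ψV : V →+* A' := (algebraMap k A').comp (IsLocalRing.residue V)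
  let iA : A →ₐ[κ] A' := Algebra.TensorProduct.includeRight
  let ψB : B →+* A' := iA.toRingHom.comp toA
  have hψ : ∀ r, ψB (algebraMap R B r) = ψV (algebraMap R V r) := fun r => by
    show iA (toA (algebraMap R B r)) = algebraMap k A' (IsLocalRing.residue V (algebraMap R V r))
    rw [← hχ]
    have e1 : toA (algebraMap R B r) = algebraMap κ A (algebraMap R κ r) := by
      show mkQuot p Q₀ ((Algebra.TensorProduct.includeRight : B →ₐ[R] κ ⊗[R] B) (algebraMap R B r)) = _
      rw [AlgHom.commutes]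
      rfl
    rw [e1, AlgHom.commutes]
    exact IsScalarTower.algebraMap_apply κ k A' _
  have hRA : ∀ r, algebraMap R A' r = ψV (algebraMap R V r) := fun r => rfl
  let ψ : C →ₐ[R] A' := Algebra.TensorProduct.lift
    ({ ψV with commutes' := fun r => (hRA r).symm } : V →ₐ[R] A')
    ({ ψB with commutes' := fun r => (hψ r).trans (hRA r).symm } : B →ₐ[R] A') (fun _ _ => Commute.all _ _)
  have hψb : ∀ b, ψ ((1 : V) ⊗ₜ[R] b) = ψB b := fun b => by
    rw [Algebra.TensorProduct.lift_tmul, map_one, one_mul]; rfl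
  have hψv : ∀ v, ψ (algebraMap V C v) = ψV v := fun v => by
    show ψ (v ⊗ₜ[R] (1 : B)) = _
    rw [Algebra.TensorProduct.lift_tmul, map_one, mul_one]; rfl
  have hψsurj : Function.Surjective ψ := by
    intro z
    induction z using TensorProduct.induction_on with
    | zero => exact ⟨0, map_zero _⟩
    | tmul c a =>
      obtain ⟨y, rfl⟩ := mkQuot_surjective p Q₀ a
      obtain ⟨r, hr, b, hb⟩ := Ideal.Fiber.exists_smul_eq_one_tmul _ y
      have hu : χ (algebraMap R κ r) ≠ 0 := by
        rw [_root_.map_ne_zero χ]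
        exact fun h => hr ((Ideal.algebraMap_residueField_eq_zero).mp h)
      obtain ⟨v, hv⟩ := IsLocalRing.residue_surjective (c * (χ (algebraMap R κ r))⁻¹)
      refine ⟨v ⊗ₜ b, ?_⟩
      rw [Algebra.TensorProduct.lift_tmul]
      show (IsLocalRing.residue V v ⊗ₜ[κ] (1 : A)) * ((1 : k) ⊗ₜ[κ] toA b) = _
      rw [Algebra.TensorProduct.tmul_mul_tmul, mul_one, one_mul, hv]
      have htoA : toA b = (algebraMap R κ r) • mkQuot p Q₀ y := by
        show mkQuotₐ p Q₀ ((1 : κ) ⊗ₜ[R] b) = _
        rw [← hb, ← algebraMap_smul κ r y, map_smul]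
        rfl
      rw [htoA, ← TensorProduct.smul_tmul, Algebra.smul_def]
      congr 1
      show χ (algebraMap R κ r) * (c * (χ (algebraMap R κ r))⁻¹) = c
      rw [mul_comm c, ← mul_assoc, mul_inv_cancel₀ hu, one_mul]
    | add x y hx hy =>
      obtain ⟨a, ha⟩ := hx
      obtain ⟨b, hb⟩ := hy
      exact ⟨a + b, by rw [map_add, ha, hb]⟩
  -- every prime of the closed fibre over the component comes from `A'`
  have hfac : ∀ Q : Ideal C, Q.IsPrime → Q.comap (algebraMap V C) = IsLocalRing.maximalIdeal V →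
      Q₀.comap (toFib p) ≤ Q.comap (Algebra.TensorProduct.includeRight : B →ₐ[R] C).toRingHom →
      ∃ Q' : Ideal A', Q'.IsPrime ∧ Q'.comap ψ.toRingHom = Q := by
    intro Q hQ hQm hQ0B
    haveI := hQ
    let Ω := Q.ResidueField
    let fV : V →+* Ω := (algebraMap C Ω).comp (algebraMap V C)
    let fk : k →+* Ω := Ideal.Quotient.lift _ fV fun v hv =>
      (Ideal.algebraMap_residueField_eq_zero (I := Q)).mpr (hQm.ge hv)
    letI : Algebra κ Ω := (fk.comp χ).toAlgebra
    letI : Algebra R Ω := (fV.comp (algebraMap R V)).toAlgebra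
    haveI : IsScalarTower R κ Ω := IsScalarTower.of_algebraMap_eq fun r => by
      show fV (algebraMap R V r) = fk (χ (algebraMap R κ r))
      rw [hχ]; rfl
    let fB : B →ₐ[R] Ω :=
      { (algebraMap C Ω).comp (Algebra.TensorProduct.includeRight : B →ₐ[R] C).toRingHom with
        commutes' := fun r => by
          show algebraMap C Ω ((Algebra.TensorProduct.includeRight : B →ₐ[R] C) (algebraMap R B r)) = _
          rw [AlgHom.commutes]
          rfl }
    let fF : p.Fiber B →ₐ[κ] Ω := Algebra.TensorProduct.lift (Algebra.ofId κ Ω) fB (fun _ _ => Commute.all _ _)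
    have hkill : Q₀ ≤ RingHom.ker fF.toRingHom := by
      haveI : (RingHom.ker fF.toRingHom).IsPrime := RingHom.ker_isPrime _
      refine le_of_comap_toFib p (hJ := inferInstance) (hQ0B.trans fun b hb => ?_)
      show fF ((1 : κ) ⊗ₜ[R] b) = 0
      rw [Algebra.TensorProduct.lift_tmul, map_one, one_mul]
      exact (Ideal.algebraMap_residueField_eq_zero (I := Q)).mpr hb
    let fA : A →ₐ[κ] Ω := liftQuot p Q₀ fF hkill
    let fA' : A' →ₐ[κ] Ω := Algebra.TensorProduct.lift
      ({ fk with commutes' := fun _ => rfl } : k →ₐ[κ] Ω) fA (fun _ _ => Commute.all _ _)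
    refine ⟨RingHom.ker fA'.toRingHom, RingHom.ker_isPrime _, ?_⟩
    have hcomp : fA'.toRingHom.comp ψ.toRingHom = algebraMap C Ω := by
      refine RingHom.ext fun x => ?_
      induction x using TensorProduct.induction_on with
      | zero => simp
      | tmul v b =>
        show fA' (ψ (v ⊗ₜ b)) = _
        rw [Algebra.TensorProduct.lift_tmul]
        show fA' ((IsLocalRing.residue V v ⊗ₜ[κ] (1 : A)) * ((1 : k) ⊗ₜ[κ] toA b)) = _
        rw [map_mul, Algebra.TensorProduct.lift_tmul, Algebra.TensorProduct.lift_tmul, map_one, map_one,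
          mul_one, one_mul]
        show fk (IsLocalRing.residue V v) * fF ((1 : κ) ⊗ₜ[R] b) = _
        rw [Algebra.TensorProduct.lift_tmul, map_one, one_mul]
        show algebraMap C Ω (v ⊗ₜ (1 : B)) * algebraMap C Ω ((1 : V) ⊗ₜ b) = _
        rw [← map_mul, Algebra.TensorProduct.tmul_mul_tmul, mul_one, one_mul]
      | add a b ha hb => rw [map_add, map_add, ha, hb]
    rw [RingHom.comap_ker, hcomp, Ideal.ker_algebraMap_residueField]
  refine ⟨inferInstance, ψ.toRingHom, hψsurj, hψv, fun b => ?_, hfac⟩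
  show ψ ((1 : V) ⊗ₜ[R] b) = _
  rw [hψb]
  rfl

theorem mem_iff_of_comap_eq {V C : Type u} [CommRing V] [IsLocalRing V] [CommRing C] [Algebra V C] {n : ℕ}
    (φ : MvPolynomial (Fin n) V →ₐ[V] C) (J : Ideal C)
    (hJm : J.comap (algebraMap V C) = IsLocalRing.maximalIdeal V)
    (hJX : ∀ i, φ (MvPolynomial.X i) ∈ J) (F : MvPolynomial (Fin n) V) :
    φ F ∈ J ↔ MvPolynomial.constantCoeff F ∈ IsLocalRing.maximalIdeal V := by
  have h : φ F - algebraMap V C (MvPolynomial.constantCoeff F) ∈ J := by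
    induction F using MvPolynomial.induction_on with
    | C a => simp [AlgHom.commutes, show φ (MvPolynomial.C a) = algebraMap V C a from φ.commutes a]
    | add a b ha hb => rw [map_add, map_add, map_add, add_sub_add_comm]; exact add_mem ha hb
    | mul_X a i _ =>
      rw [map_mul, map_mul, MvPolynomial.constantCoeff_X, mul_zero, map_zero, sub_zero]
      exact J.mul_mem_left _ (hJX i)
  rw [← hJm, Ideal.mem_comap]
  exact ⟨fun h' => by simpa using J.sub_mem h' h, fun h' => by simpa using J.add_mem h h'⟩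

/-- Quasi-finiteness over affine space survives base change and translation. -/
theorem quasiFinite_of_aeval {n : ℕ} (t : Fin n → B) (hqf : (aeval (R := R) t).toRingHom.QuasiFinite)
    {V : Type u} [CommRing V] [Algebra R V] (v : Fin n → V)
    (φ : MvPolynomial (Fin n) V →ₐ[V] V ⊗[R] B)
    (hφX : ∀ i, φ (MvPolynomial.X i) = (1 : V) ⊗ₜ[R] t i - algebraMap V (V ⊗[R] B) (v i)) :
    letI := φ.toRingHom.toAlgebra
    Algebra.QuasiFinite (MvPolynomial (Fin n) V) (V ⊗[R] B) := by
  letI := φ.toRingHom.toAlgebra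
  letI := (aeval (R := R) t).toRingHom.toAlgebra
  haveI : Algebra.QuasiFinite (MvPolynomial (Fin n) R) B := hqf
  let ρ : MvPolynomial (Fin n) R →+* MvPolynomial (Fin n) V :=
    (aeval (R := R) fun i => (MvPolynomial.X i + MvPolynomial.C (v i) : MvPolynomial (Fin n) V)).toRingHom
  letI := ρ.toAlgebra
  let iB := (Algebra.TensorProduct.includeRight : B →ₐ[R] V ⊗[R] B)
  have hρ : ∀ F, φ (ρ F) = iB (aeval t F) := by
    intro F
    induction F using MvPolynomial.induction_on with
    | C a =>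
      simp only [ρ, AlgHom.toRingHom_eq_coe, RingHom.coe_coe, MvPolynomial.aeval_C]
      rw [AlgHom.commutes, IsScalarTower.algebraMap_apply R V (MvPolynomial (Fin n) V), AlgHom.commutes,
        ← IsScalarTower.algebraMap_apply]
    | add a b ha hb => rw [map_add, map_add, map_add, map_add, ha, hb]
    | mul_X a i ha =>
      rw [map_mul, map_mul, map_mul, map_mul, ha]
      congr 1
      simp only [ρ, AlgHom.toRingHom_eq_coe, RingHom.coe_coe, MvPolynomial.aeval_X, map_add, hφX]
      rw [show φ (MvPolynomial.C (v i)) = algebraMap V (V ⊗[R] B) (v i) from φ.commutes _, sub_add_cancel]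
      rfl
  letI : Algebra (MvPolynomial (Fin n) R) (V ⊗[R] B) := (φ.toRingHom.comp ρ).toAlgebra
  haveI : IsScalarTower (MvPolynomial (Fin n) R) (MvPolynomial (Fin n) V) (V ⊗[R] B) :=
    IsScalarTower.of_algebraMap_eq fun _ => rfl
  let f : MvPolynomial (Fin n) V ⊗[MvPolynomial (Fin n) R] B →ₐ[MvPolynomial (Fin n) V] V ⊗[R] B :=
    Algebra.TensorProduct.lift (Algebra.ofId _ _)
      ({ iB.toRingHom with commutes' := fun F => (hρ F).symm } : B →ₐ[MvPolynomial (Fin n) R] V ⊗[R] B)
      (fun _ _ => Commute.all _ _)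
  refine Algebra.QuasiFinite.of_surjective_algHom f fun z => ?_
  induction z using TensorProduct.induction_on with
  | zero => exact ⟨0, map_zero f⟩
  | tmul a b =>
    refine ⟨MvPolynomial.C a ⊗ₜ b, ?_⟩
    show φ (MvPolynomial.C a) * iB b = _
    rw [show φ (MvPolynomial.C a) = algebraMap V (V ⊗[R] B) a from φ.commutes _]
    show (a ⊗ₜ[R] (1 : B)) * ((1 : V) ⊗ₜ[R] b) = _
    rw [Algebra.TensorProduct.tmul_mul_tmul, mul_one, one_mul]
  | add x y hx hy =>
    obtain ⟨a, rfl⟩ := hx
    obtain ⟨b, rfl⟩ := hy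
    exact ⟨a + b, map_add f a b⟩

set_option maxHeartbeats 1000000 in
/-- Generizations lift along a quasi-finite map to affine space with top dimensional component through
the point. -/
theorem exists_lift_quasiFinite [Algebra.FiniteType R B] (Q₀ : Ideal (p.Fiber B)) [Q₀.IsPrime]
    {n : ℕ} (t : Fin n → B) (hqf : (aeval (R := R) t).toRingHom.QuasiFinite)
    (hn : (n : WithBot ℕ∞) ≤ ringKrullDim (p.Fiber B ⧸ Q₀))
    (V : Type u) [CommRing V] [IsDomain V] [ValuationRing V] [Algebra R V]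
    (hV : (IsLocalRing.maximalIdeal V).comap (algebraMap R V) = p)
    (hgo : ∀ Q : Ideal (V ⊗[R] B), Q.IsPrime → Q.comap (algebraMap V (V ⊗[R] B)) = IsLocalRing.maximalIdeal V →
        Q.comap (Algebra.TensorProduct.includeRight : B →ₐ[R] V ⊗[R] B).toRingHom = Q₀.comap (toFib p) →
        ∃ Q' : Ideal (V ⊗[R] B), Q'.IsPrime ∧ Q' ≤ Q ∧ Q'.comap (algebraMap V (V ⊗[R] B)) = ⊥)
    (v : Fin n → V) (q : Ideal (V ⊗[R] B)) [hq : q.IsPrime]
    (hqm : q.comap (algebraMap V (V ⊗[R] B)) = IsLocalRing.maximalIdeal V)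
    (hqQ : Q₀.comap (toFib p) ≤ q.comap (Algebra.TensorProduct.includeRight : B →ₐ[R] V ⊗[R] B).toRingHom)
    (hqt : ∀ i, (1 : V) ⊗ₜ[R] t i - algebraMap V (V ⊗[R] B) (v i) ∈ q) :
    ∃ P : Ideal (V ⊗[R] B), P.IsPrime ∧ P ≤ q ∧ P.comap (algebraMap V (V ⊗[R] B)) = ⊥ ∧
      ∀ i, (1 : V) ⊗ₜ[R] t i - algebraMap V (V ⊗[R] B) (v i) ∈ P := by
  classical
  let κ := p.ResidueField
  let A := QuotFib p Q₀
  haveI : Algebra.FiniteType κ A :=
    Algebra.FiniteType.of_surjective (mkQuotₐ p Q₀) (mkQuot_surjective p Q₀)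
  have hn' : (n : WithBot ℕ∞) ≤ ringKrullDim A := hn
  obtain ⟨d, g, hg, hgf⟩ := exists_finite_inj_algHom_of_fg κ A
  obtain ⟨_, ψ, hψsurj, hψv, hψb, hfac⟩ := exists_closedFibreMap p Q₀ V hV
  let C := V ⊗[R] B
  let k := IsLocalRing.ResidueField V
  let A' := k ⊗[κ] A
  let P0 := MvPolynomial (Fin n) V
  let φ : P0 →ₐ[V] C := aeval fun i => (1 : V) ⊗ₜ[R] t i - algebraMap V C (v i)
  have hφC : ∀ a, φ (MvPolynomial.C a) = algebraMap V C a := fun a => φ.commutes a
  have hφX : ∀ i, φ (MvPolynomial.X i) = (1 : V) ⊗ₜ[R] t i - algebraMap V C (v i) :=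
    fun i => MvPolynomial.aeval_X _ i
  have hqX : ∀ i, φ (MvPolynomial.X i) ∈ q := fun i => (hφX i).symm ▸ hqt i
  letI : Algebra P0 C := φ.toRingHom.toAlgebra
  haveI : Algebra.QuasiFinite P0 C := quasiFinite_of_aeval t hqf v φ hφX
  have hsame : ∀ J : Ideal C, J.comap (algebraMap V C) = IsLocalRing.maximalIdeal V →
      (∀ i, φ (MvPolynomial.X i) ∈ J) → J.comap (algebraMap P0 C) = q.comap (algebraMap P0 C) := by
    intro J hJm hJX
    ext F
    exact (mem_iff_of_comap_eq φ J hJm hJX F).trans (mem_iff_of_comap_eq φ q hqm hqX F).symm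
  obtain ⟨q', hq', hq'q⟩ := hfac q hq hqm hqQ
  haveI := hq'
  have hcm : ∀ J : Ideal A', J.IsPrime →
      (J.comap ψ).comap (algebraMap V C) = IsLocalRing.maximalIdeal V := fun J hJ => by
    refine ((IsLocalRing.maximalIdeal.isMaximal V).eq_of_le (Ideal.comap_ne_top _ (Ideal.comap_ne_top _ hJ.ne_top))
      fun a ha => ?_).symm
    show ψ (algebraMap V C a) ∈ J
    rw [hψv, (IsLocalRing.residue_eq_zero_iff a).mpr ha, map_zero]
    exact zero_mem _
  have hback : ∀ J₁ J₂ : Ideal A', J₁.comap ψ ≤ J₂.comap ψ → J₁ ≤ J₂ := fun J₁ J₂ h z hz => by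
    obtain ⟨w, rfl⟩ := hψsurj z
    exact h hz
  haveI hq'max : q'.IsMaximal := by
    obtain ⟨N, hN, hle⟩ := Ideal.exists_le_maximal q' hq'.ne_top
    haveI := hN
    have hle' : q ≤ N.comap ψ := hq'q ▸ Ideal.comap_mono hle
    have e : q = N.comap ψ := Algebra.QuasiFinite.eq_of_le_of_under_eq (R := P0) q (N.comap ψ) hle'
      (hsame _ (hcm N hN.isPrime) fun i => hle' (hqX i)).symm
    exact le_antisymm (hback N q' (by rw [← e, hq'q])) hle ▸ hN
  let tA : Fin n → A' := fun i => ψ (φ (MvPolynomial.X i))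
  have hminA : ∀ J : Ideal A', J.IsPrime → (∀ i, tA i ∈ J) → J ≤ q' → J = q' := by
    intro J hJ hJt hJle
    haveI := hJ
    have hle : J.comap ψ ≤ q := hq'q ▸ Ideal.comap_mono hJle
    have e : J.comap ψ = q := Algebra.QuasiFinite.eq_of_le_of_under_eq (R := P0) (J.comap ψ) q hle
      (hsame _ (hcm J hJ) hJt)
    exact le_antisymm hJle (hback q' J (by rw [hq'q, e]))
  obtain ⟨Q0, hQ0, hQ0le, hQ0b⟩ := exists_prime_le (k := k) g hg hgf q'
  haveI := hQ0
  let iA : A →ₐ[κ] A' := Algebra.TensorProduct.includeRight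
  have hQ0A : Q0.comap iA.toRingHom = ⊥ := by
    letI : Algebra (MvPolynomial (Fin d) κ) A := g.toRingHom.toAlgebra
    haveI : Module.Finite (MvPolynomial (Fin d) κ) A := hgf
    refine Ideal.eq_bot_of_comap_eq_bot (R := MvPolynomial (Fin d) κ) (eq_bot_iff.mpr fun F hF => ?_)
    have h1 : MvPolynomial.map (algebraMap κ k) F ∈ Q0.comap (extHom k g).toRingHom := by
      show extHom k g (MvPolynomial.map (algebraMap κ k) F) ∈ Q0
      rw [extHom_map]
      exact hF
    rw [hQ0b, Ideal.mem_bot, ← map_zero (MvPolynomial.map (algebraMap κ k))] at h1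
    exact Ideal.mem_bot.mpr (MvPolynomial.map_injective _ (algebraMap κ k).injective h1)
  let Q1 : Ideal C := Q0.comap ψ
  have hQ1m : Q1.comap (algebraMap V C) = IsLocalRing.maximalIdeal V := by
    refine ((IsLocalRing.maximalIdeal.isMaximal V).eq_of_le (Ideal.comap_ne_top _ Ideal.IsPrime.ne_top')
      fun v hv => ?_).symm
    show ψ (algebraMap V C v) ∈ Q0
    rw [hψv]
    show algebraMap k A' (IsLocalRing.residue V v) ∈ Q0
    rw [(IsLocalRing.residue_eq_zero_iff v).mpr hv, map_zero]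
    exact zero_mem _
  obtain ⟨Q, hQ, hQle, hQbot⟩ := hgo Q1 inferInstance hQ1m (by
    have hcA : ((Q0.comap iA.toRingHom).comap (mkQuot p Q₀)).comap (toFib p) =
        Q1.comap (Algebra.TensorProduct.includeRight : B →ₐ[R] C).toRingHom := by
      ext b
      show iA (mkQuot p Q₀ (toFib p b)) ∈ Q0 ↔ ψ ((1 : V) ⊗ₜ[R] b) ∈ Q0
      rw [hψb]
      rfl
    rw [← hcA, hQ0A, ← RingHom.ker_eq_comap_bot, ker_mkQuot])
  haveI := hQ
  -- the coordinates are independent on the component
  let E := A' ⧸ Q0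
  haveI : Algebra.FiniteType k A' := inferInstance
  haveI : Algebra.FiniteType k E :=
    Algebra.FiniteType.of_surjective (Ideal.Quotient.mkₐ k Q0) Ideal.Quotient.mk_surjective
  let gE : MvPolynomial (Fin d) k →ₐ[k] E := (Ideal.Quotient.mkₐ k Q0).comp (extHom k g)
  have hgEinj : Function.Injective gE := by
    rw [injective_iff_map_eq_zero]
    intro F hF
    have : F ∈ Q0.comap (extHom k g).toRingHom :=
      show extHom k g F ∈ Q0 from Ideal.Quotient.eq_zero_iff_mem.mp hF
    rwa [hQ0b, Ideal.mem_bot] at this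
  have hgEfin : gE.Finite := by
    have hft : (gE.toRingHom).FiniteType :=
      RingHom.FiniteType.of_comp_finiteType (f := algebraMap k (MvPolynomial (Fin d) k)) (by
        rw [AlgHom.toRingHom_eq_coe, AlgHom.comp_algebraMap]
        exact RingHom.finiteType_algebraMap.mpr inferInstance)
    exact RingHom.IsIntegral.to_finite (RingHom.IsIntegral.trans _ _
      (extHom_integral (k := k) g (RingHom.IsIntegral.of_finite hgf))
      (RingHom.isIntegral_of_surjective _ Ideal.Quotient.mk_surjective)) hft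
  have hdimE : ringKrullDim E = d := Unibranch.ringKrullDim_eq_of_finite_inj gE hgEinj hgEfin
  have hdimA : ringKrullDim A = d := Unibranch.ringKrullDim_eq_of_finite_inj g hg hgf
  let qE : Ideal E := q'.map (Ideal.Quotient.mk Q0)
  haveI : qE.IsMaximal := Ideal.IsMaximal.map_of_surjective_of_ker_le Ideal.Quotient.mk_surjective
    (by rw [Ideal.mk_ker]; exact hQ0le)
  have hqEc : qE.comap (Ideal.Quotient.mk Q0) = q' := by
    rw [Ideal.comap_map_of_surjective _ Ideal.Quotient.mk_surjective, ← RingHom.ker_eq_comap_bot,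
      Ideal.mk_ker, sup_eq_left.mpr hQ0le]
  have hqEmin : qE ∈ (Ideal.span (Set.range fun i => Ideal.Quotient.mk Q0 (tA i))).minimalPrimes := by
    refine ⟨⟨inferInstance, Ideal.span_le.mpr ?_⟩, fun J hJ hJle => ?_⟩
    · rintro _ ⟨i, rfl⟩
      refine Ideal.mem_map_of_mem _ ?_
      show φ (MvPolynomial.X i) ∈ q'.comap ψ
      rw [hq'q]; exact hqX i
    · haveI := hJ.1
      have := hminA (J.comap (Ideal.Quotient.mk Q0)) inferInstance
        (fun i => hJ.2 (Ideal.subset_span ⟨i, rfl⟩)) ((Ideal.comap_mono hJle).trans hqEc.le)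
      exact Ideal.map_le_iff_le_comap.mpr this.ge
  have hindep := aeval_injective_of_isolated (k := k) (fun i => Ideal.Quotient.mk Q0 (tA i)) qE hqEmin
    (hn'.trans (hdimA.trans hdimE.symm).le)
  let red : P0 →+* MvPolynomial (Fin n) k := MvPolynomial.map (IsLocalRing.residue V)
  have hsq : ∀ F, Ideal.Quotient.mk Q0 (ψ (φ F)) =
      aeval (R := k) (fun i => Ideal.Quotient.mk Q0 (tA i)) (red F) := by
    have : (Ideal.Quotient.mk Q0).comp (ψ.comp φ.toRingHom) =
        (aeval (R := k) fun i => Ideal.Quotient.mk Q0 (tA i)).toRingHom.comp red := by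
      refine MvPolynomial.ringHom_ext (fun a => ?_) fun i => ?_
      · simp only [RingHom.comp_apply, AlgHom.toRingHom_eq_coe, RingHom.coe_coe, red, hφC,
          MvPolynomial.map_C, MvPolynomial.aeval_C]
        rw [hψv]
        rfl
      · simp only [RingHom.comp_apply, AlgHom.toRingHom_eq_coe, RingHom.coe_coe, red,
          MvPolynomial.map_X, MvPolynomial.aeval_X, tA]
    exact fun F => RingHom.congr_fun this F
  have hφQ : ∀ F, φ F ∈ Q → F = 0 := by
    intro F hF
    by_contra hne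
    obtain ⟨c, hc, F', rfl, j, hj⟩ := JacDesc.exists_primitive F hne
    rw [map_mul] at hF
    have hF' : φ F' ∈ Q := (hQ.mem_or_mem hF).resolve_left fun h => hc (by
      have h0 : algebraMap V C c ∈ Q := hφC c ▸ h
      have : c ∈ Q.comap (algebraMap V C) := h0
      rw [hQbot] at this
      exact Ideal.mem_bot.mp this)
    have h1 : red F' = 0 := hindep (by
      rw [map_zero, ← hsq]
      exact Ideal.Quotient.eq_zero_iff_mem.mpr (hQle hF'))
    have h3 := congrArg (MvPolynomial.coeff j) h1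
    rw [MvPolynomial.coeff_map, hj, map_one, MvPolynomial.coeff_zero] at h3
    exact one_ne_zero h3
  haveI : IsScalarTower V P0 (C ⧸ Q) := IsScalarTower.of_algebraMap_eq fun (a : V) => by
    rw [IsScalarTower.algebraMap_apply P0 C (C ⧸ Q)]
    exact congrArg (Ideal.Quotient.mk Q) (φ.commutes a).symm
  haveI : Algebra.FiniteType V (C ⧸ Q) :=
    Algebra.FiniteType.of_surjective (Ideal.Quotient.mkₐ V Q) Ideal.Quotient.mk_surjective
  haveI : Algebra.FiniteType P0 (C ⧸ Q) := .of_restrictScalars_finiteType V _ _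
  haveI : Algebra.QuasiFinite P0 (C ⧸ Q) := inferInstance
  have hQq : Q ≤ q := hQle.trans ((Ideal.comap_mono hQ0le).trans hq'q.le)
  let qC : Ideal (C ⧸ Q) := q.map (Ideal.Quotient.mk Q)
  haveI : qC.IsPrime := Ideal.map_isPrime_of_surjective Ideal.Quotient.mk_surjective (by simpa using hQq)
  have hmem : ∀ x : C, Ideal.Quotient.mk Q x ∈ qC ↔ x ∈ q := by
    intro x
    show Ideal.Quotient.mk Q x ∈ q.map (Ideal.Quotient.mk Q) ↔ _
    rw [← Ideal.mem_comap, Ideal.comap_map_of_surjective _ Ideal.Quotient.mk_surjective,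
      ← RingHom.ker_eq_comap_bot, Ideal.mk_ker, sup_eq_left.mpr hQq]
  have hmap : ∀ F, algebraMap P0 (C ⧸ Q) F = Ideal.Quotient.mk Q (φ F) :=
    fun F => IsScalarTower.algebraMap_apply P0 C (C ⧸ Q) F
  obtain ⟨P, hP, hPle, hPbot, hPX⟩ := exists_prime_over_origin (V := V) (n := n) (C := C ⧸ Q)
    (fun a b h => sub_eq_zero.mp (hφQ _ (by
      rw [← Ideal.Quotient.eq_zero_iff_mem, ← hmap, map_sub, sub_eq_zero]; exact h))) qC
    (weaklyQuasiFiniteAt_of _ inferInstance)
    (fun i => by rw [hmap]; exact (hmem _).mpr (hqX i))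
  haveI := hP
  refine ⟨P.comap (Ideal.Quotient.mk Q), inferInstance, fun x hx => (hmem x).mp (hPle hx), ?_, fun i => ?_⟩
  · rw [Ideal.comap_comap]; exact hPbot
  · have h2 := hPX i
    rw [hmap, hφX] at h2
    exact h2

end Groth.Agent.SlicePt
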