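import Groth.Agent.SlicePt.Algebra
import Groth.Agent.LqfRep.Ring
import Groth.Agent.EtaPt.Core
import Groth.Agent.Unibranch.ImageDim
import Groth.Agent.GoingDown.Algebra

/-!
# Finite quasi-sections over étale neighbourhoods

A finitely presented algebra with going down over all valuation rings has, at a point with irreducible
fibre, a finite surjective quasi-section over an étale neighbourhood with a single point over that point.
-/

set_option autoImplicit false
set_option linter.style.haveILetI false
universe u

open TensorProduct PrimeSpectrum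

namespace Groth.Agent.SlicePt

/-- A residue field map is surjective when its image contains the images of the ring. -/
theorem residueMap_surjective {B B' : Type u} [CommRing B] [CommRing B'] (q : Ideal B) [q.IsPrime] (z : Ideal B')
    [z.IsPrime] (h : B →+* B') (hb : q = z.comap h)
    (hgen : ∀ w, algebraMap B' z.ResidueField w ∈ (Ideal.ResidueField.map q z h hb).fieldRange) :
    Function.Surjective (Ideal.ResidueField.map q z h hb) := by
  intro x
  obtain ⟨a, c, -, rfl⟩ := IsFractionRing.div_surjective (A := B' ⧸ z) x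
  obtain ⟨a, rfl⟩ := Ideal.Quotient.mk_surjective a
  obtain ⟨c, rfl⟩ := Ideal.Quotient.mk_surjective c
  show _ ∈ (Ideal.ResidueField.map q z h hb).fieldRange
  rw [← Ideal.Quotient.algebraMap_eq, ← IsScalarTower.algebraMap_apply, ← IsScalarTower.algebraMap_apply]
  exact div_mem (hgen a) (hgen c)

/-- Elements of a ring with trivial residue extension land in a subfield containing the base. -/
theorem mem_subfield_of_residue {R A' L : Type u} [CommRing R] [CommRing A'] [Algebra R A'] [Field L]
    (p : Ideal R) [p.IsPrime] (P : Ideal A') [P.IsPrime] (hPo : p = P.under R)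
    (hsurj : Function.Surjective (Ideal.ResidueField.mapₐ p P (Algebra.ofId R A') hPo))
    (θ : A' →+* L) (hθ : ∀ u, θ u = 0 ↔ u ∈ P) (K0 : Subfield L) (hR : ∀ r, θ (algebraMap R A' r) ∈ K0)
    (c : A') : θ c ∈ K0 := by
  obtain ⟨z, hz⟩ := hsurj (algebraMap A' P.ResidueField c)
  obtain ⟨x, y, hy, hxy⟩ := IsFractionRing.div_surjective (A := R ⧸ p) z
  obtain ⟨x, rfl⟩ := Ideal.Quotient.mk_surjective x
  obtain ⟨y, rfl⟩ := Ideal.Quotient.mk_surjective y
  have hyP : algebraMap R A' y ∉ P := fun h =>
    nonZeroDivisors.ne_zero hy (Ideal.Quotient.eq_zero_iff_mem.mpr (hPo ▸ h))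
  rw [← Ideal.Quotient.algebraMap_eq, ← IsScalarTower.algebraMap_apply R (R ⧸ p) p.ResidueField,
    ← IsScalarTower.algebraMap_apply R (R ⧸ p) p.ResidueField] at hxy
  rw [← hxy, map_div₀, AlgHom.commutes, AlgHom.commutes, IsScalarTower.algebraMap_apply R A' P.ResidueField,
    IsScalarTower.algebraMap_apply R A' P.ResidueField,
    div_eq_iff (fun h => hyP ((Ideal.algebraMap_residueField_eq_zero).mp h)), ← map_mul, ← sub_eq_zero, ← map_sub,
    Ideal.algebraMap_residueField_eq_zero] at hz
  have he : θ c = θ (algebraMap R A' x) / θ (algebraMap R A' y) := by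
    rw [eq_div_iff (fun h => hyP ((hθ _).mp h)), ← map_mul]
    exact ((sub_eq_zero.mp (by rw [← map_sub]; exact (hθ _).mpr hz)) : θ _ = θ _).symm
  rw [he]
  exact div_mem (hR x) (hR y)

set_option maxHeartbeats 600000 in
/-- A quasi-finite slice to which generizations lift gives a quasi-section through its point, without
residue field extension. -/
theorem exists_quasiSection_of_slice {R B : Type u} [CommRing R] [CommRing B] [Algebra R B] (p : Ideal R) [p.IsPrime]
    [Algebra.FinitePresentation R B] (qB : PrimeSpectrum B) (hqBp : qB.asIdeal.comap (algebraMap R B) = p)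
    {n : ℕ} (t : Fin n → B) (hqBt : ∀ i, t i ∈ qB.asIdeal)
    (hqf : ∀ qD : PrimeSpectrum (B ⧸ Ideal.span (Set.range t)),
      qD.asIdeal.comap (Ideal.Quotient.mk (Ideal.span (Set.range t))) = qB.asIdeal →
      Algebra.QuasiFiniteAt R qD.asIdeal)
    (hlift : ∀ (V : Type u) [CommRing V] [IsDomain V] [ValuationRing V] [Algebra R V],
      (IsLocalRing.maximalIdeal V).comap (algebraMap R V) = p →
      ∀ Q : Ideal (V ⊗[R] B), Q.IsPrime → Q.comap (algebraMap V (V ⊗[R] B)) = IsLocalRing.maximalIdeal V →
        Q.comap (Algebra.TensorProduct.includeRight : B →ₐ[R] V ⊗[R] B).toRingHom = qB.asIdeal →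
        ∃ P : Ideal (V ⊗[R] B), P.IsPrime ∧ P ≤ Q ∧ P.comap (algebraMap V (V ⊗[R] B)) = ⊥ ∧
          ∀ i, (1 : V) ⊗ₜ[R] t i ∈ P) :
    ∃ (R' : Type u) (_ : CommRing R') (_ : Algebra R R') (B' : Type u) (_ : CommRing B') (_ : Algebra R' B')
      (h : B →+* B'), Algebra.Etale R R' ∧ Module.Finite R' B' ∧ Algebra.FinitePresentation R' B' ∧
      Function.Surjective (PrimeSpectrum.comap (algebraMap R' B')) ∧
      h.comp (algebraMap R B) = (algebraMap R' B').comp (algebraMap R R') ∧
      ∃ (b : PrimeSpectrum B') (hb : qB.asIdeal = b.asIdeal.comap h),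
        Function.Surjective (Ideal.ResidueField.map qB.asIdeal b.asIdeal h hb) ∧
        ∀ b' : PrimeSpectrum B',
        b'.asIdeal.comap ((algebraMap R' B').comp (algebraMap R R')) = p ↔ b' = b := by
  classical
  let J : Ideal B := Ideal.span (Set.range t)
  let D := B ⧸ J
  haveI : Algebra.FinitePresentation R D := Algebra.FinitePresentation.quotient
    (Submodule.fg_span (Set.finite_range t))
  have hJq : J ≤ qB.asIdeal := Ideal.span_le.mpr (by rintro _ ⟨i, rfl⟩; exact hqBt i)
  let qD : PrimeSpectrum D := ⟨qB.asIdeal.map (Ideal.Quotient.mk J),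
    Ideal.map_isPrime_of_surjective Ideal.Quotient.mk_surjective (by rwa [Ideal.mk_ker])⟩
  have hqD : qD.asIdeal.comap (Ideal.Quotient.mk J) = qB.asIdeal := by
    rw [Ideal.comap_map_of_surjective _ Ideal.Quotient.mk_surjective, ← RingHom.ker_eq_comap_bot,
      Ideal.mk_ker, sup_eq_left.mpr hJq]
  haveI : qD.asIdeal.IsPrime := qD.isPrime
  have hqDp : qD.asIdeal.comap (algebraMap R D) = p := by
    rw [show algebraMap R D = (Ideal.Quotient.mk J).comp (algebraMap R B) from rfl, ← Ideal.comap_comap, hqD, hqBp]
  haveI : Algebra.QuasiFiniteAt R qD.asIdeal := hqf qD hqD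
  haveI : qD.asIdeal.LiesOver p := ⟨hqDp.symm⟩
  obtain ⟨A', _, _, hA', P, hP, hPo, e, he, P', hP', hP'o, hP'q, heP', hbij, hEfin, huniq⟩ :=
    Algebra.exists_etale_isIdempotentElem_forall_liesOver_eq (R := R) (S := D) p qD.asIdeal
  haveI := hA'
  haveI := hP
  haveI := hP'
  haveI := hEfin
  let E := Localization.Away e
  haveI : Algebra.FinitePresentation (A' ⊗[R] D) E := IsLocalization.Away.finitePresentation e
  haveI : Algebra.FinitePresentation A' E := Algebra.FinitePresentation.trans A' (A' ⊗[R] D) E
  have hPp : P.comap (algebraMap R A') = p := by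
    rw [hP'o.over, Ideal.under_def, Ideal.comap_comap, ← hqDp, ← hP'q, Ideal.comap_comap]
    congr 1
    refine RingHom.ext fun r => ?_
    show algebraMap A' (A' ⊗[R] D) (algebraMap R A' r) = Algebra.TensorProduct.includeRight (algebraMap R D r)
    rw [AlgHom.commutes, ← IsScalarTower.algebraMap_apply]
  let Pt : PrimeSpectrum A' := ⟨P, hP⟩
  -- every generization of `P` is in the image of the piece
  have himg : ∀ p' : PrimeSpectrum A', p'.asIdeal ≤ P → p' ∈ Set.range (PrimeSpectrum.comap (algebraMap A' E)) := by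
    intro p' hle
    obtain ⟨V, g, hgj, hgP⟩ := EtaPtLib.exists_valuation (algebraMap A' p'.asIdeal.ResidueField) P
      (by rw [Ideal.ker_algebraMap_residueField]; exact hle)
    letI : Algebra R V := (g.comp (algebraMap R A')).toAlgebra
    have hgm : (IsLocalRing.maximalIdeal V).comap g = P := by
      rw [← hgP, ← RingHom.comap_ker, IsLocalRing.ker_residue]
    have hV : (IsLocalRing.maximalIdeal V).comap (algebraMap R V) = p := by
      rw [RingHom.algebraMap_toAlgebra, ← Ideal.comap_comap, hgm, hPp]
    obtain ⟨Ω, _, i, j, hij⟩ := Unibranch.exists_common_field ((IsLocalRing.residue V).comp g)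
      ((algebraMap (A' ⊗[R] D) P'.ResidueField).comp (algebraMap A' (A' ⊗[R] D)))
      (by rw [hgP, ← RingHom.comap_ker, Ideal.ker_algebraMap_residueField]; exact hP'o.over)
    let fD : A' ⊗[R] D →+* Ω := j.comp (algebraMap (A' ⊗[R] D) P'.ResidueField)
    letI : Algebra R Ω := (i.comp ((IsLocalRing.residue V).comp (algebraMap R V))).toAlgebra
    let fV : V →ₐ[R] Ω := { i.comp (IsLocalRing.residue V) with commutes' := fun r => rfl }
    let fB : B →ₐ[R] Ω :=
      { fD.comp ((Algebra.TensorProduct.includeRight : D →ₐ[R] A' ⊗[R] D).toRingHom.comp (Ideal.Quotient.mk J)) with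
        commutes' := fun r => by
          show fD ((Algebra.TensorProduct.includeRight : D →ₐ[R] A' ⊗[R] D) (algebraMap R D r)) = _
          rw [AlgHom.commutes, IsScalarTower.algebraMap_apply R A' (A' ⊗[R] D)]
          exact (hij _).symm }
    let χ : V ⊗[R] B →ₐ[R] Ω := Algebra.TensorProduct.lift fV fB (fun _ _ => Commute.all _ _)
    haveI hqp : (RingHom.ker χ.toRingHom).IsPrime := RingHom.ker_isPrime _
    obtain ⟨Q, hQ, hQle, hQbot, hQt⟩ := hlift V hV (RingHom.ker χ.toRingHom) hqp
      (by
        ext v
        show χ (v ⊗ₜ[R] (1 : B)) = 0 ↔ _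
        rw [Algebra.TensorProduct.lift_tmul, map_one, mul_one]
        show i (IsLocalRing.residue V v) = 0 ↔ _
        rw [map_eq_zero, IsLocalRing.residue_eq_zero_iff])
      (by
        ext x
        show χ ((1 : V) ⊗ₜ[R] x) = 0 ↔ _
        rw [Algebra.TensorProduct.lift_tmul, map_one, one_mul]
        show j (algebraMap (A' ⊗[R] D) P'.ResidueField
          ((Algebra.TensorProduct.includeRight : D →ₐ[R] A' ⊗[R] D) (Ideal.Quotient.mk J x))) = 0 ↔ _
        rw [map_eq_zero j, Ideal.algebraMap_residueField_eq_zero, ← hqD, Ideal.mem_comap, ← hP'q]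
        rfl)
    haveI := hQ
    let C := (V ⊗[R] B) ⧸ Q
    let ιV : V →+* C := (Ideal.Quotient.mk Q).comp (algebraMap V (V ⊗[R] B))
    let ιB : B →+* C := (Ideal.Quotient.mk Q).comp (Algebra.TensorProduct.includeRight : B →ₐ[R] V ⊗[R] B).toRingHom
    have hιB : ∀ r, ιB (algebraMap R B r) = ιV (algebraMap R V r) := fun r => by
      show Ideal.Quotient.mk Q ((Algebra.TensorProduct.includeRight : B →ₐ[R] V ⊗[R] B) (algebraMap R B r)) =
        Ideal.Quotient.mk Q (algebraMap V (V ⊗[R] B) (algebraMap R V r))
      rw [AlgHom.commutes, ← IsScalarTower.algebraMap_apply]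
    let fA : A' →ₐ[R] C :=
      { ιV.comp g with
        commutes' := fun r => by
          show ιV (algebraMap R V r) = _
          exact congrArg (Ideal.Quotient.mk Q) (IsScalarTower.algebraMap_apply R V (V ⊗[R] B) r).symm }
    let fB' : B →ₐ[R] C :=
      { ιB with
        commutes' := fun r => by
          show ιB (algebraMap R B r) = _
          rw [hιB]
          exact congrArg (Ideal.Quotient.mk Q) (IsScalarTower.algebraMap_apply R V (V ⊗[R] B) r).symm }
    let fDC : D →ₐ[R] C := Ideal.Quotient.liftₐ J fB'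
      (fun x hx => by
        induction hx using Submodule.span_induction with
        | mem y hy =>
          obtain ⟨k, rfl⟩ := hy
          exact Ideal.Quotient.eq_zero_iff_mem.mpr (hQt k)
        | zero => exact map_zero _
        | add u v _ _ hu hv => rw [map_add, hu, hv, add_zero]
        | smul c u _ hu => rw [smul_eq_mul, map_mul, hu, mul_zero])
    let ξ : A' ⊗[R] D →ₐ[R] C := Algebra.TensorProduct.lift fA fDC (fun _ _ => Commute.all _ _)
    let χC : C →+* Ω := Ideal.Quotient.lift Q χ.toRingHom fun x hx => hQle hx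
    have hcomp : χC.comp ξ.toRingHom = fD := by
      refine RingHom.ext fun x => ?_
      induction x using TensorProduct.induction_on with
      | zero => simp
      | tmul a d =>
        obtain ⟨b, rfl⟩ := Ideal.Quotient.mk_surjective d
        show χC (ξ (a ⊗ₜ[R] Ideal.Quotient.mk J b)) = _
        rw [Algebra.TensorProduct.lift_tmul, map_mul]
        show χ (g a ⊗ₜ[R] (1 : B)) * χ ((1 : V) ⊗ₜ[R] b) = _
        rw [Algebra.TensorProduct.lift_tmul, Algebra.TensorProduct.lift_tmul, map_one, map_one, mul_one, one_mul]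
        show i (IsLocalRing.residue V (g a)) * fD ((1 : A') ⊗ₜ[R] Ideal.Quotient.mk J b) = _
        rw [show i (IsLocalRing.residue V (g a)) = fD (a ⊗ₜ[R] (1 : D)) from hij a, ← map_mul,
          Algebra.TensorProduct.tmul_mul_tmul, mul_one, one_mul]
      | add u v hu hv => rw [map_add, map_add, hu, hv]
    let P'' : Ideal (A' ⊗[R] D) := RingHom.ker ξ.toRingHom
    haveI : P''.IsPrime := RingHom.ker_isPrime _
    have hP''le : P'' ≤ P' := by
      intro x hx
      have h0 : fD x = 0 := by
        rw [← hcomp, RingHom.comp_apply, RingHom.mem_ker.mp hx, map_zero]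
      exact (Ideal.algebraMap_residueField_eq_zero (I := P')).mp ((map_eq_zero j).mp h0)
    have hP''A : P''.comap (algebraMap A' (A' ⊗[R] D)) = p'.asIdeal := by
      ext a
      show ξ (a ⊗ₜ[R] (1 : D)) = 0 ↔ _
      rw [Algebra.TensorProduct.lift_tmul, map_one, mul_one]
      show Ideal.Quotient.mk Q (algebraMap V (V ⊗[R] B) (g a)) = 0 ↔ _
      rw [Ideal.Quotient.eq_zero_iff_mem, ← Ideal.mem_comap, hQbot, Ideal.mem_bot,
        ← Ideal.algebraMap_residueField_eq_zero (I := p'.asIdeal), ← hgj]
      exact ⟨fun h => by rw [RingHom.comp_apply, h, map_zero], fun h => Subtype.val_injective h⟩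
    obtain ⟨x, hx⟩ : (⟨P'', inferInstance⟩ : PrimeSpectrum (A' ⊗[R] D)) ∈
        Set.range (PrimeSpectrum.comap (algebraMap (A' ⊗[R] D) E)) := by
      rw [PrimeSpectrum.localization_away_comap_range E e]
      exact fun h => heP' (hP''le h)
    refine ⟨x, PrimeSpectrum.ext ?_⟩
    rw [IsScalarTower.algebraMap_eq A' (A' ⊗[R] D) E, PrimeSpectrum.comap_comp_apply, hx]
    exact hP''A
  have hnhd : Set.range (PrimeSpectrum.comap (algebraMap A' E)) ∈ nhds Pt :=
    GoingDown.mem_nhds_of_isConstructible (PrimeSpectrum.isConstructible_range_comap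
      (RingHom.finitePresentation_algebraMap.mpr inferInstance)) himg
  -- isolate `P` in its fibre
  let pp : PrimeSpectrum R := ⟨p, inferInstance⟩
  haveI : Algebra.QuasiFinite R A' := Algebra.IsUnramifiedAt.instQuasiFiniteOfEssFiniteTypeOfFormallyUnramified
  have hmemP : Pt ∈ PrimeSpectrum.comap (algebraMap R A') ⁻¹' {pp} := PrimeSpectrum.ext hPp
  have hd := Algebra.QuasiFinite.isDiscrete_comap_preimage_singleton (R := R) (S := A') pp
  obtain ⟨U, hUo, hU⟩ : ∃ U : Set (PrimeSpectrum A'), IsOpen U ∧
      U ∩ PrimeSpectrum.comap (algebraMap R A') ⁻¹' {pp} = {Pt} := by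
    haveI := hd.1
    obtain ⟨U, hUo, hU⟩ := isOpen_induced_iff.mp
      (isOpen_discrete ({⟨Pt, hmemP⟩} : Set (PrimeSpectrum.comap (algebraMap R A') ⁻¹' {pp})))
    refine ⟨U, hUo, Set.ext fun x => ⟨fun ⟨h1, h2⟩ => ?_, fun h => ?_⟩⟩
    · have : (⟨x, h2⟩ : PrimeSpectrum.comap (algebraMap R A') ⁻¹' {pp}) ∈ ({⟨Pt, hmemP⟩} : Set _) := hU ▸ h1
      exact congrArg Subtype.val (Set.mem_singleton_iff.mp this)
    · obtain rfl := Set.mem_singleton_iff.mp h
      exact ⟨(show (⟨Pt, hmemP⟩ : PrimeSpectrum.comap (algebraMap R A') ⁻¹' {pp}) ∈ Subtype.val ⁻¹' U by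
        rw [hU]; rfl), hmemP⟩
  obtain ⟨_, ⟨f, rfl⟩, hfP, hfU⟩ := PrimeSpectrum.isTopologicalBasis_basic_opens.mem_nhds_iff.mp
    (Filter.inter_mem hnhd (hUo.mem_nhds (show Pt ∈ U by
      have : Pt ∈ U ∩ PrimeSpectrum.comap (algebraMap R A') ⁻¹' {pp} := by rw [hU]; rfl
      exact this.1)))
  let R' := Localization.Away f
  let B' := Localization.Away (algebraMap A' E f)
  let ω : R' →+* B' := Localization.awayMap (algebraMap A' E) f
  have hω : ∀ a, ω (algebraMap A' R' a) = algebraMap E B' (algebraMap A' E a) := fun a => by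
    simp [ω, Localization.awayMap, IsLocalization.Away.map]
    rfl
  letI : Algebra R' B' := ω.toAlgebra
  haveI : Module.Finite R' B' :=
    RingHom.finite_localizationPreserves.away (algebraMap A' E) f R' B' (RingHom.finite_algebraMap.mpr inferInstance)
  haveI : IsScalarTower A' R' B' := IsScalarTower.of_algebraMap_eq fun a => by
    show algebraMap A' B' a = ω (algebraMap A' R' a)
    rw [hω, ← IsScalarTower.algebraMap_apply]
  haveI : Algebra.FinitePresentation E B' := IsLocalization.Away.finitePresentation (algebraMap A' E f)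
  haveI : Algebra.FinitePresentation A' B' := Algebra.FinitePresentation.trans A' E B'
  haveI : Algebra.FinitePresentation R' B' :=
    Algebra.FinitePresentation.of_restrict_scalars_finitePresentation A' R' B'
  haveI : Algebra.Etale A' R' := Algebra.Etale.of_isLocalizationAway f
  haveI : Algebra.Etale R R' := Algebra.Etale.comp R A' R'
  have hinjE : Function.Injective (PrimeSpectrum.comap (algebraMap E B')) :=
    PrimeSpectrum.localization_comap_injective B' (.powers (algebraMap A' E f))
  let hh : B →+* B' := (algebraMap E B').comp ((algebraMap (A' ⊗[R] D) E).comp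
    ((Algebra.TensorProduct.includeRight : D →ₐ[R] A' ⊗[R] D).toRingHom.comp (Ideal.Quotient.mk J)))
  have hhR : hh.comp (algebraMap R B) = (algebraMap R' B').comp (algebraMap R R') := RingHom.ext fun r => by
    show algebraMap E B' (algebraMap (A' ⊗[R] D) E ((Algebra.TensorProduct.includeRight : D →ₐ[R] A' ⊗[R] D)
      (algebraMap R D r))) = ω (algebraMap R R' r)
    rw [AlgHom.commutes, IsScalarTower.algebraMap_apply R A' R', hω,
      IsScalarTower.algebraMap_apply R A' (A' ⊗[R] D), ← IsScalarTower.algebraMap_apply A' (A' ⊗[R] D) E]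
  refine ⟨R', inferInstance, inferInstance, B', inferInstance, inferInstance, hh, inferInstance, inferInstance,
    inferInstance, ?_, hhR, ?_⟩
  · intro x
    have hxf : f ∉ (PrimeSpectrum.comap (algebraMap A' R') x).asIdeal := by
      have : PrimeSpectrum.comap (algebraMap A' R') x ∈ (PrimeSpectrum.basicOpen f : Set (PrimeSpectrum A')) := by
        rw [← PrimeSpectrum.localization_away_comap_range R' f]; exact ⟨x, rfl⟩
      exact this
    obtain ⟨y, hy⟩ := (hfU hxf).1
    obtain ⟨z, hz⟩ : y ∈ Set.range (PrimeSpectrum.comap (algebraMap E B')) := by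
      rw [PrimeSpectrum.localization_away_comap_range B' (algebraMap A' E f)]
      intro h
      refine hxf ?_
      rw [← hy]; exact h
    refine ⟨z, PrimeSpectrum.localization_comap_injective R' (.powers f) ?_⟩
    rw [← hy, ← hz, ← PrimeSpectrum.comap_comp_apply, ← PrimeSpectrum.comap_comp_apply,
      ← IsScalarTower.algebraMap_eq, ← IsScalarTower.algebraMap_eq]
  · obtain ⟨yP, hyP⟩ : (⟨P', hP'⟩ : PrimeSpectrum (A' ⊗[R] D)) ∈
        Set.range (PrimeSpectrum.comap (algebraMap (A' ⊗[R] D) E)) := by
      rw [PrimeSpectrum.localization_away_comap_range E e]; exact heP'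
    have hyPA : PrimeSpectrum.comap (algebraMap A' E) yP = Pt := by
      rw [IsScalarTower.algebraMap_eq A' (A' ⊗[R] D) E, PrimeSpectrum.comap_comp_apply, hyP]
      exact PrimeSpectrum.ext hP'o.over.symm
    obtain ⟨zP, hzP⟩ : yP ∈ Set.range (PrimeSpectrum.comap (algebraMap E B')) := by
      rw [PrimeSpectrum.localization_away_comap_range B' (algebraMap A' E f)]
      intro h
      have : f ∈ Pt.asIdeal := by rw [← hyPA]; exact h
      exact hfP this
    let Φ : A' ⊗[R] D →+* B' := (algebraMap E B').comp (algebraMap (A' ⊗[R] D) E)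
    have hΦ : zP.asIdeal.comap Φ = P' := by
      rw [← Ideal.comap_comap, ← PrimeSpectrum.comap_asIdeal, hzP]
      exact congrArg PrimeSpectrum.asIdeal hyP
    have hb : qB.asIdeal = zP.asIdeal.comap hh := by
      rw [← hqD, ← hP'q, ← hΦ, Ideal.comap_comap, Ideal.comap_comap]
      rfl
    refine ⟨zP, hb, ?_, fun b' => ?_⟩
    · let jm := Ideal.ResidueField.map qB.asIdeal zP.asIdeal hh hb
      let K0 : Subfield zP.asIdeal.ResidueField := jm.fieldRange
      have hD : ∀ d : D, algebraMap B' zP.asIdeal.ResidueField (Φ ((1 : A') ⊗ₜ[R] d)) ∈ K0 := fun d => by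
        obtain ⟨x, rfl⟩ := Ideal.Quotient.mk_surjective d
        exact ⟨algebraMap B qB.asIdeal.ResidueField x, Ideal.ResidueField.map_algebraMap _ _ _ _ x⟩
      have hA : ∀ c : A', algebraMap B' zP.asIdeal.ResidueField (Φ (c ⊗ₜ[R] (1 : D))) ∈ K0 := by
        refine mem_subfield_of_residue p P hPo.over hbij.2
          ((algebraMap B' zP.asIdeal.ResidueField).comp (Φ.comp (algebraMap A' (A' ⊗[R] D))))
          (fun u => ?_) K0 fun r => ?_
        · show algebraMap B' zP.asIdeal.ResidueField (Φ (algebraMap A' (A' ⊗[R] D) u)) = 0 ↔ _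
          rw [Ideal.algebraMap_residueField_eq_zero, ← Ideal.mem_comap, hΦ, ← Ideal.mem_comap, ← Ideal.under_def,
            ← hP'o.over]
        · show algebraMap B' zP.asIdeal.ResidueField (Φ (algebraMap A' (A' ⊗[R] D) (algebraMap R A' r))) ∈ K0
          rw [← IsScalarTower.algebraMap_apply, ← (Algebra.TensorProduct.includeRight : D →ₐ[R] A' ⊗[R] D).commutes]
          exact hD _
      have hT : ∀ w : A' ⊗[R] D, algebraMap B' zP.asIdeal.ResidueField (Φ w) ∈ K0 := fun w => by
        induction w using TensorProduct.induction_on with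
        | zero => rw [map_zero, map_zero]; exact zero_mem _
        | tmul c d =>
          rw [show c ⊗ₜ[R] d = (c ⊗ₜ[R] (1 : D)) * ((1 : A') ⊗ₜ[R] d) by simp, map_mul, map_mul]
          exact mul_mem (hA c) (hD d)
        | add u v hu hv => rw [map_add, map_add]; exact add_mem hu hv
      let ev : B' →+* zP.asIdeal.ResidueField := algebraMap B' zP.asIdeal.ResidueField
      have hE : ∀ w : E, ev (algebraMap E B' w) ∈ K0 := fun w => by
        obtain ⟨u, m, rfl⟩ := IsLocalization.exists_mk'_eq (Submonoid.powers e) w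
        have h1 := congrArg (ev.comp (algebraMap E B')) (IsLocalization.mk'_spec E u m)
        rw [map_mul] at h1
        rw [show ev (algebraMap E B' (IsLocalization.mk' E u m)) =
          ev (Φ u) / ev (Φ (m : A' ⊗[R] D)) from eq_div_of_mul_eq (fun h0 => by
            have hu := ((IsLocalization.map_units E m).map (ev.comp (algebraMap E B'))).ne_zero
            exact hu h0) h1]
        exact div_mem (hT u) (hT _)
      have hB' : ∀ w : B', ev w ∈ K0 := fun w => by
        obtain ⟨u, m, rfl⟩ := IsLocalization.exists_mk'_eq (Submonoid.powers (algebraMap A' E f)) w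
        have h1 := congrArg ev (IsLocalization.mk'_spec B' u m)
        rw [map_mul] at h1
        rw [show ev (IsLocalization.mk' B' u m) = ev (algebraMap E B' u) / ev (algebraMap E B' (m : E)) from
          eq_div_of_mul_eq (fun h0 => ((IsLocalization.map_units B' m).map ev).ne_zero h0) h1]
        exact div_mem (hE u) (hE _)
      exact residueMap_surjective qB.asIdeal zP.asIdeal hh hb hB'
    have hcomb : ∀ b : PrimeSpectrum B', b.asIdeal.comap ((algebraMap R' B').comp (algebraMap R R')) =
        ((PrimeSpectrum.comap (algebraMap A' E) (PrimeSpectrum.comap (algebraMap E B') b))).asIdeal.comap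
          (algebraMap R A') := fun b => by
      show _ = ((b.asIdeal.comap (algebraMap E B')).comap (algebraMap A' E)).comap (algebraMap R A')
      rw [Ideal.comap_comap, Ideal.comap_comap]
      congr 1
      refine RingHom.ext fun r => ?_
      show ω (algebraMap R R' r) = algebraMap E B' (algebraMap A' E (algebraMap R A' r))
      rw [IsScalarTower.algebraMap_apply R A' R', hω]
    constructor
    · intro hb
      let y := PrimeSpectrum.comap (algebraMap E B') b'
      let a := PrimeSpectrum.comap (algebraMap A' E) y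
      have haf : f ∉ a.asIdeal := by
        intro h
        have h2 : algebraMap A' E f ∈ y.asIdeal := h
        have h3 : y ∈ (PrimeSpectrum.basicOpen (algebraMap A' E f) : Set (PrimeSpectrum E)) := by
          rw [← PrimeSpectrum.localization_away_comap_range B' (algebraMap A' E f)]; exact ⟨b', rfl⟩
        exact h3 h2
      have haP : a = Pt := by
        have : a ∈ U ∩ PrimeSpectrum.comap (algebraMap R A') ⁻¹' {pp} :=
          ⟨(hfU haf).2, PrimeSpectrum.ext ((hcomb b').symm.trans hb)⟩
        rw [hU] at this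
        exact this
      have hyy : y = yP := by
        apply PrimeSpectrum.localization_comap_injective E (.powers e)
        rw [hyP]
        let w := PrimeSpectrum.comap (algebraMap (A' ⊗[R] D) E) y
        have hwe : e ∉ w.asIdeal := by
          have : w ∈ (PrimeSpectrum.basicOpen e : Set _) := by
            rw [← PrimeSpectrum.localization_away_comap_range E e]; exact ⟨y, rfl⟩
          exact this
        refine PrimeSpectrum.ext (huniq w.asIdeal inferInstance ⟨?_⟩ hwe)
        have e1 : a.asIdeal = w.asIdeal.comap (algebraMap A' (A' ⊗[R] D)) := by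
          show (y.asIdeal).comap (algebraMap A' E) = (y.asIdeal.comap _).comap _
          rw [Ideal.comap_comap, ← IsScalarTower.algebraMap_eq]
        rw [Ideal.under_def, ← e1, haP]
      exact hinjE (hzP ▸ hyy)
    · rintro rfl
      rw [hcomb, hzP, hyPA]
      exact hPp


/-- Finite quasi-sections with one point over a given point. -/
theorem exists_quasiSection {R B : Type u} [CommRing R] [CommRing B] [Algebra R B] (p : Ideal R) [p.IsPrime]
    [Algebra.FinitePresentation R B] (hdom : (nilradical (p.Fiber B)).IsPrime)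
    (hgo : ∀ (V : Type u) [CommRing V] [IsDomain V] [ValuationRing V] [Algebra R V],
      (IsLocalRing.maximalIdeal V).comap (algebraMap R V) = p →
      ∀ Q : Ideal (V ⊗[R] B), Q.IsPrime → Q.comap (algebraMap V (V ⊗[R] B)) = IsLocalRing.maximalIdeal V →
        ∃ Q' : Ideal (V ⊗[R] B), Q'.IsPrime ∧ Q' ≤ Q ∧ Q'.comap (algebraMap V (V ⊗[R] B)) = ⊥) :
    ∃ (R' : Type u) (_ : CommRing R') (_ : Algebra R R') (B' : Type u) (_ : CommRing B') (_ : Algebra R' B')
      (h : B →+* B'), Algebra.Etale R R' ∧ Module.Finite R' B' ∧ Algebra.FinitePresentation R' B' ∧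
      Function.Surjective (PrimeSpectrum.comap (algebraMap R' B')) ∧
      h.comp (algebraMap R B) = (algebraMap R' B').comp (algebraMap R R') ∧
      ∃ b : PrimeSpectrum B', ∀ b' : PrimeSpectrum B',
        b'.asIdeal.comap ((algebraMap R' B').comp (algebraMap R R')) = p ↔ b' = b := by
  classical
  obtain ⟨n, t, ⟨qB, hqBp, hqBt⟩, hfin, hlift⟩ := exists_slice p hdom hgo
  obtain ⟨R', i1, i2, B', i3, i4, h, h1, h2, h3, h4, h5, b, -, -, hb⟩ := exists_quasiSection_of_slice p
    ⟨qB.asIdeal, qB.isPrime⟩ hqBp t hqBt (fun qD hqD => by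
      let J : Ideal B := Ideal.span (Set.range t)
      let D := B ⧸ J
      haveI : Algebra.FinitePresentation R D := Algebra.FinitePresentation.quotient
        (Submodule.fg_span (Set.finite_range t))
      have hqDp : qD.asIdeal.comap (algebraMap R D) = p := by
        rw [show algebraMap R D = (Ideal.Quotient.mk J).comp (algebraMap R B) from rfl, ← Ideal.comap_comap, hqD, hqBp]
      let q0 : PrimeSpectrum R := PrimeSpectrum.comap (algebraMap R D) qD
      have hq0 : q0.asIdeal = p := hqDp
      haveI : Finite (PrimeSpectrum.comap (algebraMap R D) ⁻¹' {q0}) := by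
        refine Set.Finite.to_subtype ?_
        refine (hfin.preimage (f := PrimeSpectrum.comap (Ideal.Quotient.mk J))
          (comap_injective_of_surjective _ Ideal.Quotient.mk_surjective).injOn).subset fun x hx => ?_
        refine ⟨?_, fun i => ?_⟩
        · rw [← hq0, ← show PrimeSpectrum.comap (algebraMap R D) x = q0 from hx]
          rfl
        · show Ideal.Quotient.mk J (t i) ∈ x.asIdeal
          rw [Ideal.Quotient.eq_zero_iff_mem.mpr (Ideal.subset_span (Set.mem_range_self i) : t i ∈ J)]
          exact zero_mem _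
      haveI : Finite (PrimeSpectrum (q0.asIdeal.Fiber D)) :=
        Finite.of_equiv _ (PrimeSpectrum.preimageHomeomorphFiber R D q0).toEquiv
      haveI : IsJacobsonRing (q0.asIdeal.Fiber D) := isJacobsonRing_of_finiteType (A := q0.asIdeal.ResidueField)
      haveI : DiscreteTopology (PrimeSpectrum (q0.asIdeal.Fiber D)) := inferInstance
      haveI : DiscreteTopology (PrimeSpectrum.comap (algebraMap R D) ⁻¹' {q0}) :=
        (PrimeSpectrum.preimageHomeomorphFiber R D q0).symm.discreteTopology
      exact Algebra.QuasiFiniteAt.of_isOpen_singleton_fiber qD (isOpen_discrete _)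
      ) (fun V _ _ _ _ hV Q hQ hQm hQq => hlift V hV Q hQ hQm fun i => by
        have : t i ∈ Q.comap (Algebra.TensorProduct.includeRight : B →ₐ[R] V ⊗[R] B).toRingHom := by
          rw [hQq]; exact hqBt i
        exact this)
  exact ⟨R', i1, i2, B', i3, i4, h, h1, h2, h3, h4, h5, b, hb⟩

end Groth.Agent.SlicePt
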