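import Groth.Agent.SlicePt.Algebra
import Groth.Agent.Unibranch.Noether
import Groth.Agent.GLinFree.Dim

/-!
# Slices through a given closed point of a fibre

A system of parameters at a closed point of the fibre cuts out a quasi-finite slice; it has the lifting
property for generizations as soon as going down holds at the generic point of a component of top
dimension through the point.
-/

set_option autoImplicit false
set_option linter.style.haveILetI false
universe u

open TensorProduct MvPolynomial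

namespace Groth.Agent.SlicePt

/-- A point without proper generisations and specialisations is open. -/
theorem isOpen_singleton_of_min_max {A : Type u} [CommRing A] [IsNoetherianRing A] (q : PrimeSpectrum A)
    (hmax : ∀ q', q ≤ q' → q' = q) (hmin : ∀ q', q' ≤ q → q' = q) : IsOpen ({q} : Set (PrimeSpectrum A)) := by
  classical
  have hfin : (minimalPrimes A).Finite := minimalPrimes.finite_of_isNoetherianRing A
  have : ({q}ᶜ : Set (PrimeSpectrum A)) =
      ⋃ m ∈ {m ∈ minimalPrimes A | m ≠ q.asIdeal}, PrimeSpectrum.zeroLocus (m : Set A) := by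
    ext x
    simp only [Set.mem_compl_iff, Set.mem_singleton_iff, Set.mem_iUnion, Set.mem_ofPred_eq, exists_prop,
      PrimeSpectrum.mem_zeroLocus, SetLike.coe_subset_coe]
    constructor
    · intro hx
      obtain ⟨m, hm, hle⟩ := Ideal.exists_minimalPrimes_le (bot_le : ⊥ ≤ x.asIdeal)
      exact ⟨m, ⟨hm, fun e => hx (hmax x (show q.asIdeal ≤ x.asIdeal from e ▸ hle))⟩, hle⟩
    · rintro ⟨m, ⟨hm, hne⟩, hle⟩ rfl
      exact hne (congrArg PrimeSpectrum.asIdeal (hmin ⟨m, hm.1.1⟩ hle))
  rw [← isClosed_compl_iff, this]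
  exact (hfin.subset fun m hm => hm.1).isClosed_biUnion fun m _ => PrimeSpectrum.isClosed_zeroLocus _

/-- A point which is minimal and maximal in its fibre is quasi-finite. -/
theorem quasiFiniteAt_of_min_max {R B : Type u} [CommRing R] [CommRing B] [Algebra R B]
    [Algebra.FiniteType R B] (q : PrimeSpectrum B)
    (h : ∀ q' : PrimeSpectrum B, q'.asIdeal.comap (algebraMap R B) = q.asIdeal.comap (algebraMap R B) →
      (q' ≤ q ∨ q ≤ q') → q' = q) : Algebra.QuasiFiniteAt R q.asIdeal := by
  let p := PrimeSpectrum.comap (algebraMap R B) q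
  let e := PrimeSpectrum.preimageOrderIsoFiber R B p
  haveI : IsNoetherianRing (p.asIdeal.Fiber B) :=
    Algebra.FiniteType.isNoetherianRing p.asIdeal.ResidueField _
  have hop : IsOpen ({e ⟨q, rfl⟩} : Set (PrimeSpectrum (p.asIdeal.Fiber B))) := by
    refine isOpen_singleton_of_min_max _ (fun y hy => ?_) (fun y hy => ?_)
    · have := e.symm.monotone hy
      rw [e.symm_apply_apply] at this
      rw [← e.apply_symm_apply y]
      exact congrArg e (Subtype.ext (h _ (congrArg PrimeSpectrum.asIdeal (e.symm y).2) (Or.inr this)))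
    · have := e.symm.monotone hy
      rw [e.symm_apply_apply] at this
      rw [← e.apply_symm_apply y]
      exact congrArg e (Subtype.ext (h _ (congrArg PrimeSpectrum.asIdeal (e.symm y).2) (Or.inl this)))
  refine Algebra.QuasiFiniteAt.of_isOpen_singleton_fiber q ?_
  have h2 := hop.preimage (PrimeSpectrum.preimageHomeomorphFiber R B p).continuous
  convert! h2 using 1
  ext x
  exact ⟨fun hx => congrArg e hx, fun hx => e.injective hx⟩

/-- Quasi-finite implies weakly quasi-finite. -/
theorem weaklyQuasiFiniteAt_of {R B : Type u} [CommRing R] [CommRing B] [Algebra R B] (q : Ideal B) [q.IsPrime]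
    (h : Algebra.QuasiFiniteAt R q) : Algebra.WeaklyQuasiFiniteAt R q := inferInstance

/-- As many functions as the dimension, with an isolated common zero, are algebraically independent. -/
theorem aeval_injective_of_isolated {k E : Type u} [Field k] [CommRing E] [IsDomain E] [Algebra k E]
    [Algebra.FiniteType k E] {n : ℕ} (t : Fin n → E) (q : Ideal E) [q.IsMaximal]
    (hmin : q ∈ (Ideal.span (Set.range t)).minimalPrimes) (hn : (n : WithBot ℕ∞) ≤ ringKrullDim E) :
    Function.Injective (aeval (R := k) t) := by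
  let g := aeval (R := k) t
  rw [injective_iff_map_eq_zero]
  intro F hF
  by_contra hne
  let I := RingHom.ker g.toRingHom
  haveI : I.IsPrime := RingHom.ker_isPrime _
  let T := MvPolynomial (Fin n) k ⧸ I
  letI : Algebra T E := (Ideal.Quotient.lift I g.toRingHom fun x hx => hx).toAlgebra
  haveI : IsNoetherianRing E := Algebra.FiniteType.isNoetherianRing k E
  have hdimT : ringKrullDim T + 1 ≤ n := by
    have h1 : ringKrullDim T ≤ ringKrullDim (MvPolynomial (Fin n) k ⧸ Ideal.span {F}) :=
      ringKrullDim_le_of_surjective (Ideal.Quotient.factor ((Ideal.span_singleton_le_iff_mem I).mpr hF))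
        (Ideal.Quotient.factor_surjective _)
    have h2 := ringKrullDim_quotient_succ_le_of_nonZeroDivisor (mem_nonZeroDivisors_of_ne_zero hne)
    have h3 : ringKrullDim (MvPolynomial (Fin n) k) = n :=
      Unibranch.ringKrullDim_eq_of_finite_inj (AlgHom.id k _) Function.injective_id
        (AlgHom.Finite.of_surjective _ Function.surjective_id)
    calc ringKrullDim T + 1 ≤ ringKrullDim (MvPolynomial (Fin n) k ⧸ Ideal.span {F}) + 1 :=
          add_le_add h1 le_rfl
      _ ≤ _ := h2.trans h3.le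
  let P := q.under T
  have hzero : (q.map (Ideal.Quotient.mk (P.map (algebraMap T E)))).height = 0 := by
    have hle : P.map (algebraMap T E) ≤ q := Ideal.map_le_iff_le_comap.mpr le_rfl
    haveI : (q.map (Ideal.Quotient.mk (P.map (algebraMap T E)))).IsPrime :=
      Ideal.isPrime_map_quotientMk_of_isPrime hle
    rw [Ideal.height_eq_zero_iff]
    refine ⟨⟨inferInstance, bot_le⟩, fun J hJ hJq => ?_⟩
    have hle' : Ideal.span (Set.range t) ≤ J.comap (Ideal.Quotient.mk (P.map (algebraMap T E))) := by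
      refine Ideal.span_le.mpr ?_
      rintro _ ⟨i, rfl⟩
      have ht : t i = algebraMap T E (Ideal.Quotient.mk I (MvPolynomial.X i)) := by
        show t i = g (MvPolynomial.X i)
        simp [g]
      have hP : Ideal.Quotient.mk I (MvPolynomial.X i) ∈ P := by
        show algebraMap T E _ ∈ q
        rw [← ht]
        exact hmin.1.2 (Ideal.subset_span ⟨i, rfl⟩)
      show Ideal.Quotient.mk (P.map (algebraMap T E)) (t i) ∈ J
      rw [ht, Ideal.Quotient.eq_zero_iff_mem.mpr (Ideal.mem_map_of_mem _ hP)]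
      exact zero_mem _
    haveI := hJ.1
    have hJ' : J.comap (Ideal.Quotient.mk (P.map (algebraMap T E))) ≤ q := by
      refine (Ideal.comap_mono hJq).trans ?_
      rw [Ideal.comap_map_of_surjective _ Ideal.Quotient.mk_surjective, ← RingHom.ker_eq_comap_bot,
        Ideal.mk_ker, sup_eq_left.mpr hle]
    exact Ideal.map_le_iff_le_comap.mpr (hmin.2 ⟨inferInstance, hle'⟩ hJ')
  haveI : q.LiesOver P := ⟨rfl⟩
  have h4 : q.height ≤ P.height := by
    have := Ideal.height_le_height_add_of_liesOver P q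
    rwa [hzero, add_zero] at this
  obtain ⟨d, g', hg', hg'f⟩ := exists_finite_inj_algHom_of_fg k E
  have hd := Unibranch.ringKrullDim_eq_of_finite_inj g' hg' hg'f
  have h5 : (d : WithBot ℕ∞) ≤ ringKrullDim T := by
    rw [← hd, ← GLinFree.height_eq_ringKrullDim (K := k) q]
    exact (WithBot.coe_le_coe.mpr h4).trans (Ideal.height_le_ringKrullDim_of_ne_top Ideal.IsPrime.ne_top')
  have h6 : ((d + 1 : ℕ) : WithBot ℕ∞) ≤ (d : WithBot ℕ∞) := by
    push_cast
    exact (add_le_add h5 le_rfl).trans (hdimT.trans (hn.trans hd.le))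
  have := ENat.natCast_le_natCast.mp (WithBot.coe_le_coe.mp h6)
  omega

/-- Residue fields at maximal ideals of finite type algebras over fields are finite. -/
theorem finite_quotient_maximal (K : Type u) [Field K] {A : Type u} [CommRing A] [Algebra K A]
    [Algebra.FiniteType K A] (m : Ideal A) [m.IsMaximal] : Module.Finite K (A ⧸ m) := by
  letI : Field (A ⧸ m) := Ideal.Quotient.field m
  haveI : Algebra.FiniteType K (A ⧸ m) :=
    Algebra.FiniteType.of_surjective (Ideal.Quotient.mkₐ K m) Ideal.Quotient.mk_surjective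
  exact finite_of_finite_type_of_isJacobsonRing _ _

variable {R B : Type u} [CommRing R] [CommRing B] [Algebra R B] (p : Ideal R) [p.IsPrime]

/-- The natural map to the fibre. -/
noncomputable abbrev toFib : B →+* p.Fiber B :=
  (Algebra.TensorProduct.includeRight : B →ₐ[R] p.Fiber B).toRingHom

theorem le_of_comap_toFib {J J' : Ideal (p.Fiber B)} [hJ : J.IsPrime] [hJ' : J'.IsPrime]
    (h : J.comap (toFib p) ≤ J'.comap (toFib p)) : J ≤ J' := by
  let e := (PrimeSpectrum.preimageOrderIsoFiber R B ⟨p, inferInstance⟩).symm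
  let a : PrimeSpectrum (p.Fiber B) := ⟨J, hJ⟩
  let b : PrimeSpectrum (p.Fiber B) := ⟨J', hJ'⟩
  have h' : e a ≤ e b := h
  exact (e.le_iff_le.mp h' : a ≤ b)

theorem comap_toFib (J : Ideal (p.Fiber B)) [J.IsPrime] :
    (J.comap (toFib p)).comap (algebraMap R B) = p :=
  congrArg PrimeSpectrum.asIdeal
    ((PrimeSpectrum.preimageOrderIsoFiber R B ⟨p, inferInstance⟩).symm ⟨J, inferInstance⟩).2

theorem exists_toFib_eq (q : Ideal B) [q.IsPrime] (hq : q.comap (algebraMap R B) = p) :
    ∃ J : Ideal (p.Fiber B), J.IsPrime ∧ J.comap (toFib p) = q := by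
  let e := PrimeSpectrum.preimageOrderIsoFiber R B ⟨p, inferInstance⟩
  refine ⟨(e ⟨⟨q, inferInstance⟩, PrimeSpectrum.ext hq⟩).asIdeal, inferInstance, ?_⟩
  exact congrArg (fun y => y.1.asIdeal) (e.symm_apply_apply ⟨⟨q, inferInstance⟩, PrimeSpectrum.ext hq⟩)

/-- A quotient of the fibre. -/
def QuotFib (Q₀ : Ideal (p.Fiber B)) : Type u := p.Fiber B ⧸ Q₀

noncomputable instance (Q₀ : Ideal (p.Fiber B)) : CommRing (QuotFib p Q₀) :=
  inferInstanceAs (CommRing (p.Fiber B ⧸ Q₀))

/-- The quotient map. -/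
noncomputable def mkQuot (Q₀ : Ideal (p.Fiber B)) : p.Fiber B →+* QuotFib p Q₀ := Ideal.Quotient.mk _

noncomputable instance (Q₀ : Ideal (p.Fiber B)) : Algebra p.ResidueField (QuotFib p Q₀) :=
  ((mkQuot p Q₀).comp (algebraMap p.ResidueField (p.Fiber B))).toAlgebra

/-- The quotient map, as a map of algebras over the residue field. -/
noncomputable def mkQuotₐ (Q₀ : Ideal (p.Fiber B)) : p.Fiber B →ₐ[p.ResidueField] QuotFib p Q₀ :=
  { mkQuot p Q₀ with commutes' := fun _ => rfl }

theorem mkQuot_surjective (Q₀ : Ideal (p.Fiber B)) : Function.Surjective (mkQuot p Q₀) :=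
  Ideal.Quotient.mk_surjective

theorem ker_mkQuot (Q₀ : Ideal (p.Fiber B)) : RingHom.ker (mkQuot p Q₀) = Q₀ := Ideal.mk_ker

instance (Q₀ : Ideal (p.Fiber B)) [Q₀.IsPrime] : IsDomain (QuotFib p Q₀) :=
  inferInstanceAs (IsDomain (p.Fiber B ⧸ Q₀))

/-- A map killing the ideal descends to the quotient. -/
noncomputable def liftQuot (Q₀ : Ideal (p.Fiber B)) {Ω : Type u} [CommRing Ω] [Algebra p.ResidueField Ω]
    (f : p.Fiber B →ₐ[p.ResidueField] Ω) (h : Q₀ ≤ RingHom.ker f.toRingHom) : QuotFib p Q₀ →ₐ[p.ResidueField] Ω :=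
  { (Ideal.Quotient.lift Q₀ f.toRingHom fun x hx => h hx : QuotFib p Q₀ →+* Ω) with
    commutes' := fun c => f.commutes c }

set_option maxHeartbeats 1000000 in
/-- Generizations lift to the slice through a closed point. -/
theorem exists_lift_through [Algebra.FiniteType R B] (Q₀ : Ideal (p.Fiber B)) [Q₀.IsPrime]
    (M : Ideal (p.Fiber B)) [M.IsMaximal] (hQM : Q₀ ≤ M) {n : ℕ} (t : Fin n → B)
    (hmin : M ∈ (Ideal.span (Set.range fun i => toFib p (t i))).minimalPrimes)
    (hn : (n : WithBot ℕ∞) ≤ ringKrullDim (p.Fiber B ⧸ Q₀))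
    (V : Type u) [CommRing V] [IsDomain V] [ValuationRing V] [Algebra R V]
    (hV : (IsLocalRing.maximalIdeal V).comap (algebraMap R V) = p)
    (hgo : ∀ Q : Ideal (V ⊗[R] B), Q.IsPrime → Q.comap (algebraMap V (V ⊗[R] B)) = IsLocalRing.maximalIdeal V →
        Q.comap (Algebra.TensorProduct.includeRight : B →ₐ[R] V ⊗[R] B).toRingHom = Q₀.comap (toFib p) →
        ∃ Q' : Ideal (V ⊗[R] B), Q'.IsPrime ∧ Q' ≤ Q ∧ Q'.comap (algebraMap V (V ⊗[R] B)) = ⊥)
    (q : Ideal (V ⊗[R] B)) [hq : q.IsPrime]
    (hqm : q.comap (algebraMap V (V ⊗[R] B)) = IsLocalRing.maximalIdeal V)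
    (hqq : q.comap (Algebra.TensorProduct.includeRight : B →ₐ[R] V ⊗[R] B).toRingHom = M.comap (toFib p)) :
    ∃ P : Ideal (V ⊗[R] B), P.IsPrime ∧ P ≤ q ∧ P.comap (algebraMap V (V ⊗[R] B)) = ⊥ ∧
      ∀ i, (1 : V) ⊗ₜ[R] t i ∈ P := by
  classical
  let κ := p.ResidueField
  let A := QuotFib p Q₀
  haveI : Algebra.FiniteType κ A :=
    Algebra.FiniteType.of_surjective (mkQuotₐ p Q₀) (mkQuot_surjective p Q₀)
  let toA : B →+* A := (mkQuot p Q₀).comp (toFib p)
  let mA : Ideal A := M.map (mkQuot p Q₀)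
  haveI : mA.IsMaximal := Ideal.IsMaximal.map_of_surjective_of_ker_le (mkQuot_surjective p Q₀)
    (by rw [ker_mkQuot]; exact hQM)
  have hmAc : mA.comap (mkQuot p Q₀) = M := by
    rw [Ideal.comap_map_of_surjective _ (mkQuot_surjective p Q₀), ← RingHom.ker_eq_comap_bot,
      ker_mkQuot, sup_eq_left.mpr hQM]
  haveI : Module.Finite κ (A ⧸ mA) := finite_quotient_maximal κ mA
  have hn' : (n : WithBot ℕ∞) ≤ ringKrullDim A := hn
  obtain ⟨d, g, hg, hgf⟩ := exists_finite_inj_algHom_of_fg κ A
  let C := V ⊗[R] B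
  let k := IsLocalRing.ResidueField V
  let χ : κ →+* k := Ideal.ResidueField.lift p ((IsLocalRing.residue V).comp (algebraMap R V))
    (by rw [← RingHom.comap_ker, IsLocalRing.ker_residue, hV])
    (fun r hr => Ne.isUnit fun h => hr (hV.le ((IsLocalRing.residue_eq_zero_iff _).mp h)))
  have hχ : ∀ r, χ (algebraMap R κ r) = IsLocalRing.residue V (algebraMap R V r) := fun r =>
    Ideal.ResidueField.lift_algebraMap ..
  letI := χ.toAlgebra
  let A' := k ⊗[κ] A
  let ψV : V →+* A' := (algebraMap k A').comp (IsLocalRing.residue V)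
  let iA : A →ₐ[κ] A' := Algebra.TensorProduct.includeRight
  let ψB : B →+* A' := iA.toRingHom.comp toA
  have hψ : ∀ r, ψB (algebraMap R B r) = ψV (algebraMap R V r) := fun r => by
    show iA (toA (algebraMap R B r)) = algebraMap k A' (IsLocalRing.residue V (algebraMap R V r))
    rw [← hχ]
    have e1 : toA (algebraMap R B r) = algebraMap κ A (algebraMap R κ r) := by
      show mkQuot p Q₀ ((Algebra.TensorProduct.includeRight : B →ₐ[R] κ ⊗[R] B) (algebraMap R B r)) = _
      rw [AlgHom.commutes]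
      rfl
    rw [e1, AlgHom.commutes]
    exact IsScalarTower.algebraMap_apply κ k A' _
  have hRA : ∀ r, algebraMap R A' r = ψV (algebraMap R V r) := fun r => rfl
  let ψ : C →ₐ[R] A' := Algebra.TensorProduct.lift
    ({ ψV with commutes' := fun r => (hRA r).symm } : V →ₐ[R] A')
    ({ ψB with commutes' := fun r => (hψ r).trans (hRA r).symm } : B →ₐ[R] A') (fun _ _ => Commute.all _ _)
  have hψb : ∀ b, ψ ((1 : V) ⊗ₜ[R] b) = ψB b := fun b => by
    rw [Algebra.TensorProduct.lift_tmul, map_one, one_mul]; rfl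
  have hψv : ∀ v, ψ (algebraMap V C v) = ψV v := fun v => by
    show ψ (v ⊗ₜ[R] (1 : B)) = _
    rw [Algebra.TensorProduct.lift_tmul, map_one, mul_one]; rfl
  have hψsurj : Function.Surjective ψ := by
    intro z
    induction z using TensorProduct.induction_on with
    | zero => exact ⟨0, map_zero _⟩
    | tmul c a =>
      obtain ⟨y, rfl⟩ := mkQuot_surjective p Q₀ a
      obtain ⟨r, hr, b, hb⟩ := Ideal.Fiber.exists_smul_eq_one_tmul _ y
      have hu : χ (algebraMap R κ r) ≠ 0 := by
        rw [_root_.map_ne_zero χ]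
        exact fun h => hr ((Ideal.algebraMap_residueField_eq_zero).mp h)
      obtain ⟨v, hv⟩ := IsLocalRing.residue_surjective (c * (χ (algebraMap R κ r))⁻¹)
      refine ⟨v ⊗ₜ b, ?_⟩
      rw [Algebra.TensorProduct.lift_tmul]
      show (IsLocalRing.residue V v ⊗ₜ[κ] (1 : A)) * ((1 : k) ⊗ₜ[κ] toA b) = _
      rw [Algebra.TensorProduct.tmul_mul_tmul, mul_one, one_mul, hv]
      have htoA : toA b = (algebraMap R κ r) • mkQuot p Q₀ y := by
        show mkQuotₐ p Q₀ ((1 : κ) ⊗ₜ[R] b) = _
        rw [← hb, ← algebraMap_smul κ r y, map_smul]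
        rfl
      rw [htoA, ← TensorProduct.smul_tmul, Algebra.smul_def]
      congr 1
      show χ (algebraMap R κ r) * (c * (χ (algebraMap R κ r))⁻¹) = c
      rw [mul_comm c, ← mul_assoc, mul_inv_cancel₀ hu, one_mul]
    | add x y hx hy =>
      obtain ⟨a, ha⟩ := hx
      obtain ⟨b, hb⟩ := hy
      exact ⟨a + b, by rw [map_add, ha, hb]⟩
  -- every prime of the closed fibre over the component comes from `A'`
  have hfac : ∀ Q : Ideal C, Q.IsPrime → Q.comap (algebraMap V C) = IsLocalRing.maximalIdeal V →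
      Q₀.comap (toFib p) ≤ Q.comap (Algebra.TensorProduct.includeRight : B →ₐ[R] C).toRingHom →
      ∃ Q' : Ideal A', Q'.IsPrime ∧ Q'.comap ψ.toRingHom = Q := by
    intro Q hQ hQm hQ0B
    haveI := hQ
    let Ω := Q.ResidueField
    let fV : V →+* Ω := (algebraMap C Ω).comp (algebraMap V C)
    let fk : k →+* Ω := Ideal.Quotient.lift _ fV fun v hv =>
      (Ideal.algebraMap_residueField_eq_zero (I := Q)).mpr (hQm.ge hv)
    letI : Algebra κ Ω := (fk.comp χ).toAlgebra
    letI : Algebra R Ω := (fV.comp (algebraMap R V)).toAlgebra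
    haveI : IsScalarTower R κ Ω := IsScalarTower.of_algebraMap_eq fun r => by
      show fV (algebraMap R V r) = fk (χ (algebraMap R κ r))
      rw [hχ]; rfl
    let fB : B →ₐ[R] Ω :=
      { (algebraMap C Ω).comp (Algebra.TensorProduct.includeRight : B →ₐ[R] C).toRingHom with
        commutes' := fun r => by
          show algebraMap C Ω ((Algebra.TensorProduct.includeRight : B →ₐ[R] C) (algebraMap R B r)) = _
          rw [AlgHom.commutes]
          rfl }
    let fF : p.Fiber B →ₐ[κ] Ω := Algebra.TensorProduct.lift (Algebra.ofId κ Ω) fB (fun _ _ => Commute.all _ _)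
    have hkill : Q₀ ≤ RingHom.ker fF.toRingHom := by
      haveI : (RingHom.ker fF.toRingHom).IsPrime := RingHom.ker_isPrime _
      refine le_of_comap_toFib p (hJ := inferInstance) (hQ0B.trans fun b hb => ?_)
      show fF ((1 : κ) ⊗ₜ[R] b) = 0
      rw [Algebra.TensorProduct.lift_tmul, map_one, one_mul]
      exact (Ideal.algebraMap_residueField_eq_zero (I := Q)).mpr hb
    let fA : A →ₐ[κ] Ω := liftQuot p Q₀ fF hkill
    let fA' : A' →ₐ[κ] Ω := Algebra.TensorProduct.lift
      ({ fk with commutes' := fun _ => rfl } : k →ₐ[κ] Ω) fA (fun _ _ => Commute.all _ _)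
    refine ⟨RingHom.ker fA'.toRingHom, RingHom.ker_isPrime _, ?_⟩
    have hcomp : fA'.toRingHom.comp ψ.toRingHom = algebraMap C Ω := by
      refine RingHom.ext fun x => ?_
      induction x using TensorProduct.induction_on with
      | zero => simp
      | tmul v b =>
        show fA' (ψ (v ⊗ₜ b)) = _
        rw [Algebra.TensorProduct.lift_tmul]
        show fA' ((IsLocalRing.residue V v ⊗ₜ[κ] (1 : A)) * ((1 : k) ⊗ₜ[κ] toA b)) = _
        rw [map_mul, Algebra.TensorProduct.lift_tmul, Algebra.TensorProduct.lift_tmul, map_one, map_one,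
          mul_one, one_mul]
        show fk (IsLocalRing.residue V v) * fF ((1 : κ) ⊗ₜ[R] b) = _
        rw [Algebra.TensorProduct.lift_tmul, map_one, one_mul]
        show algebraMap C Ω (v ⊗ₜ (1 : B)) * algebraMap C Ω ((1 : V) ⊗ₜ b) = _
        rw [← map_mul, Algebra.TensorProduct.tmul_mul_tmul, mul_one, one_mul]
      | add a b ha hb => rw [map_add, map_add, ha, hb]
    rw [RingHom.comap_ker, hcomp, Ideal.ker_algebraMap_residueField]
  have hψi : ∀ b, ψ.toRingHom ((Algebra.TensorProduct.includeRight : B →ₐ[R] C).toRingHom b) = iA (toA b) := hψb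
  -- contraction to `A`
  have hcA : ∀ J : Ideal A', ((J.comap iA.toRingHom).comap (mkQuot p Q₀)).comap (toFib p) =
      (J.comap ψ.toRingHom).comap (Algebra.TensorProduct.includeRight : B →ₐ[R] C).toRingHom := fun J => by
    ext b
    show iA (toA b) ∈ J ↔ ψ.toRingHom _ ∈ J
    rw [hψi]
  obtain ⟨q', hq', hq'q⟩ := hfac q hq hqm (by rw [hqq]; exact Ideal.comap_mono hQM)
  haveI := hq'
  have hq'A : q'.comap iA.toRingHom = mA := by
    refine Ideal.comap_injective_of_surjective _ (mkQuot_surjective p Q₀) ?_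
    rw [hmAc]
    have h : ((q'.comap iA.toRingHom).comap (mkQuot p Q₀)).comap (toFib p) = M.comap (toFib p) := by
      rw [hcA, hq'q, hqq]
    exact le_antisymm (le_of_comap_toFib p h.le) (le_of_comap_toFib p h.ge)
  -- primes over `mA` are maximal
  have hmaxA : ∀ J : Ideal A', J.IsPrime → mA ≤ J.comap iA.toRingHom → J.IsMaximal := by
    intro J hJ hJm
    haveI := hJ
    let fm : A ⧸ mA →ₐ[κ] A' ⧸ J := Ideal.Quotient.liftₐ mA ((Ideal.Quotient.mkₐ κ J).comp iA)
      fun x hx => Ideal.Quotient.eq_zero_iff_mem.mpr (hJm hx)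
    haveI : Algebra.IsIntegral k (A' ⧸ J) := ⟨fun z => by
      obtain ⟨z, rfl⟩ := Ideal.Quotient.mk_surjective z
      induction z using TensorProduct.induction_on with
      | zero => rw [map_zero]; exact isIntegral_zero
      | tmul c a =>
        have e : Ideal.Quotient.mk J (c ⊗ₜ[κ] a) =
            algebraMap k (A' ⧸ J) c * fm (Ideal.Quotient.mk mA a) := by
          show _ = Ideal.Quotient.mk J (c ⊗ₜ[κ] (1 : A)) * Ideal.Quotient.mk J ((1 : k) ⊗ₜ[κ] a)
          rw [← map_mul, Algebra.TensorProduct.tmul_mul_tmul, mul_one, one_mul]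
        rw [e]
        exact isIntegral_algebraMap.mul ((((Algebra.IsIntegral.isIntegral (R := κ) (Ideal.Quotient.mk mA a)).map fm)).tower_top)
      | add x y hx hy => rw [map_add]; exact hx.add hy⟩
    exact Ideal.Quotient.maximal_of_isField J (isField_of_isIntegral_of_isField' (Field.toIsField k))
  haveI hq'max : q'.IsMaximal := hmaxA q' hq' hq'A.ge
  have hmtq : ∀ i, toFib p (t i) ∈ M := fun i => hmin.1.2 (Ideal.subset_span ⟨i, rfl⟩)
  let tA : Fin n → A' := fun i => iA (toA (t i))
  have hq't : ∀ i, tA i ∈ q' := fun i => by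
    have : toA (t i) ∈ q'.comap iA.toRingHom := by rw [hq'A]; exact Ideal.mem_map_of_mem _ (hmtq i)
    exact this
  have hminA : ∀ J : Ideal A', J.IsPrime → (∀ i, tA i ∈ J) → J ≤ q' → J = q' := by
    intro J hJ hJt hJle
    haveI := hJ
    have hJF : (J.comap iA.toRingHom).comap (mkQuot p Q₀) = M := by
      refine le_antisymm ?_ ?_
      · rw [← hmAc, ← hq'A]; exact Ideal.comap_mono (Ideal.comap_mono hJle)
      · refine hmin.2 ⟨inferInstance, Ideal.span_le.mpr ?_⟩ ?_
        · rintro _ ⟨i, rfl⟩; exact hJt i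
        · rw [← hmAc, ← hq'A]; exact Ideal.comap_mono (Ideal.comap_mono hJle)
    have : mA ≤ J.comap iA.toRingHom := Ideal.map_le_iff_le_comap.mpr hJF.ge
    exact (hmaxA J hJ this).eq_of_le hq'max.ne_top hJle
  obtain ⟨Q0, hQ0, hQ0le, hQ0b⟩ := exists_prime_le (k := k) g hg hgf q'
  haveI := hQ0
  have hQ0A : Q0.comap iA.toRingHom = ⊥ := by
    letI : Algebra (MvPolynomial (Fin d) κ) A := g.toRingHom.toAlgebra
    haveI : Module.Finite (MvPolynomial (Fin d) κ) A := hgf
    refine Ideal.eq_bot_of_comap_eq_bot (R := MvPolynomial (Fin d) κ) (eq_bot_iff.mpr fun F hF => ?_)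
    have h1 : MvPolynomial.map (algebraMap κ k) F ∈ Q0.comap (extHom k g).toRingHom := by
      show extHom k g (MvPolynomial.map (algebraMap κ k) F) ∈ Q0
      rw [extHom_map]
      exact hF
    rw [hQ0b, Ideal.mem_bot, ← map_zero (MvPolynomial.map (algebraMap κ k))] at h1
    exact Ideal.mem_bot.mpr (MvPolynomial.map_injective _ (algebraMap κ k).injective h1)
  let Q1 : Ideal C := Q0.comap ψ.toRingHom
  have hQ1m : Q1.comap (algebraMap V C) = IsLocalRing.maximalIdeal V := by
    refine ((IsLocalRing.maximalIdeal.isMaximal V).eq_of_le (Ideal.comap_ne_top _ Ideal.IsPrime.ne_top')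
      fun v hv => ?_).symm
    show ψ (algebraMap V C v) ∈ Q0
    rw [hψv]
    show algebraMap k A' (IsLocalRing.residue V v) ∈ Q0
    rw [(IsLocalRing.residue_eq_zero_iff v).mpr hv, map_zero]
    exact zero_mem _
  obtain ⟨Q, hQ, hQle, hQbot⟩ := hgo Q1 inferInstance hQ1m (by
    rw [← hcA, hQ0A, ← RingHom.ker_eq_comap_bot, ker_mkQuot])
  haveI := hQ
  -- the coordinates are independent on the component
  let E := A' ⧸ Q0
  haveI : Algebra.FiniteType k A' := inferInstance
  haveI : Algebra.FiniteType k E :=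
    Algebra.FiniteType.of_surjective (Ideal.Quotient.mkₐ k Q0) Ideal.Quotient.mk_surjective
  let gE : MvPolynomial (Fin d) k →ₐ[k] E := (Ideal.Quotient.mkₐ k Q0).comp (extHom k g)
  have hgEinj : Function.Injective gE := by
    rw [injective_iff_map_eq_zero]
    intro F hF
    have : F ∈ Q0.comap (extHom k g).toRingHom :=
      show extHom k g F ∈ Q0 from Ideal.Quotient.eq_zero_iff_mem.mp hF
    rwa [hQ0b, Ideal.mem_bot] at this
  have hgEfin : gE.Finite := by
    have hft : (gE.toRingHom).FiniteType :=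
      RingHom.FiniteType.of_comp_finiteType (f := algebraMap k (MvPolynomial (Fin d) k)) (by
        rw [AlgHom.toRingHom_eq_coe, AlgHom.comp_algebraMap]
        exact RingHom.finiteType_algebraMap.mpr inferInstance)
    exact RingHom.IsIntegral.to_finite (RingHom.IsIntegral.trans _ _
      (extHom_integral (k := k) g (RingHom.IsIntegral.of_finite hgf))
      (RingHom.isIntegral_of_surjective _ Ideal.Quotient.mk_surjective)) hft
  have hdimE : ringKrullDim E = d := Unibranch.ringKrullDim_eq_of_finite_inj gE hgEinj hgEfin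
  have hdimA : ringKrullDim A = d := Unibranch.ringKrullDim_eq_of_finite_inj g hg hgf
  let qE : Ideal E := q'.map (Ideal.Quotient.mk Q0)
  haveI : qE.IsMaximal := Ideal.IsMaximal.map_of_surjective_of_ker_le Ideal.Quotient.mk_surjective
    (by rw [Ideal.mk_ker]; exact hQ0le)
  have hqEc : qE.comap (Ideal.Quotient.mk Q0) = q' := by
    rw [Ideal.comap_map_of_surjective _ Ideal.Quotient.mk_surjective, ← RingHom.ker_eq_comap_bot,
      Ideal.mk_ker, sup_eq_left.mpr hQ0le]
  have hqEmin : qE ∈ (Ideal.span (Set.range fun i => Ideal.Quotient.mk Q0 (tA i))).minimalPrimes := by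
    refine ⟨⟨inferInstance, Ideal.span_le.mpr ?_⟩, fun J hJ hJle => ?_⟩
    · rintro _ ⟨i, rfl⟩; exact Ideal.mem_map_of_mem _ (hq't i)
    · haveI := hJ.1
      have := hminA (J.comap (Ideal.Quotient.mk Q0)) inferInstance
        (fun i => hJ.2 (Ideal.subset_span ⟨i, rfl⟩)) ((Ideal.comap_mono hJle).trans hqEc.le)
      exact Ideal.map_le_iff_le_comap.mpr this.ge
  have hindep := aeval_injective_of_isolated (k := k) (fun i => Ideal.Quotient.mk Q0 (tA i)) qE hqEmin
    (hn'.trans (hdimA.trans hdimE.symm).le)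
  let P0 := MvPolynomial (Fin n) V
  let φ : P0 →ₐ[V] C := aeval fun i => (1 : V) ⊗ₜ[R] t i
  have hφC : ∀ a, φ (MvPolynomial.C a) = algebraMap V C a := fun a => φ.commutes a
  have hφX : ∀ i, φ (MvPolynomial.X i) = (1 : V) ⊗ₜ[R] t i := fun i => MvPolynomial.aeval_X _ i
  let red : P0 →+* MvPolynomial (Fin n) k := MvPolynomial.map (IsLocalRing.residue V)
  have hsq : ∀ F, Ideal.Quotient.mk Q0 (ψ (φ F)) =
      aeval (R := k) (fun i => Ideal.Quotient.mk Q0 (tA i)) (red F) := by
    have : (Ideal.Quotient.mk Q0).comp (ψ.toRingHom.comp φ.toRingHom) =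
        (aeval (R := k) fun i => Ideal.Quotient.mk Q0 (tA i)).toRingHom.comp red := by
      refine MvPolynomial.ringHom_ext (fun a => ?_) fun i => ?_
      · simp only [RingHom.comp_apply, AlgHom.toRingHom_eq_coe, RingHom.coe_coe, red, hφC, hψv,
          MvPolynomial.map_C, MvPolynomial.aeval_C]
        rfl
      · simp only [RingHom.comp_apply, AlgHom.toRingHom_eq_coe, RingHom.coe_coe, red, hφX, hψb,
          MvPolynomial.map_X, MvPolynomial.aeval_X]
        rfl
    exact fun F => RingHom.congr_fun this F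
  have hφQ : ∀ F, φ F ∈ Q → F = 0 := by
    intro F hF
    by_contra hne
    obtain ⟨c, hc, F', rfl, j, hj⟩ := JacDesc.exists_primitive F hne
    rw [map_mul] at hF
    have hF' : φ F' ∈ Q := (hQ.mem_or_mem hF).resolve_left fun h => hc (by
      have h0 : algebraMap V C c ∈ Q := hφC c ▸ h
      have : c ∈ Q.comap (algebraMap V C) := h0
      rw [hQbot] at this
      exact Ideal.mem_bot.mp this)
    have h1 : red F' = 0 := hindep (by
      rw [map_zero, ← hsq]
      exact Ideal.Quotient.eq_zero_iff_mem.mpr (hQle hF'))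
    have h3 := congrArg (MvPolynomial.coeff j) h1
    rw [MvPolynomial.coeff_map, hj, map_one, MvPolynomial.coeff_zero] at h3
    exact one_ne_zero h3
  letI : Algebra P0 (C ⧸ Q) := ((Ideal.Quotient.mk Q).comp φ.toRingHom).toAlgebra
  haveI : IsScalarTower V P0 (C ⧸ Q) := IsScalarTower.of_algebraMap_eq fun a => by
    rw [RingHom.algebraMap_toAlgebra, RingHom.comp_apply]
    exact congrArg (Ideal.Quotient.mk Q) (φ.commutes a).symm
  haveI : Algebra.FiniteType V (C ⧸ Q) :=
    Algebra.FiniteType.of_surjective (Ideal.Quotient.mkₐ V Q) Ideal.Quotient.mk_surjective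
  haveI : Algebra.FiniteType P0 (C ⧸ Q) := .of_restrictScalars_finiteType V _ _
  have hQq : Q ≤ q := hQle.trans ((Ideal.comap_mono hQ0le).trans hq'q.le)
  let qC : PrimeSpectrum (C ⧸ Q) := ⟨q.map (Ideal.Quotient.mk Q),
    Ideal.map_isPrime_of_surjective Ideal.Quotient.mk_surjective (by simpa using hQq)⟩
  haveI := qC.isPrime
  have hmem : ∀ x : C, Ideal.Quotient.mk Q x ∈ qC.asIdeal ↔ x ∈ q := by
    intro x
    show Ideal.Quotient.mk Q x ∈ q.map (Ideal.Quotient.mk Q) ↔ _
    rw [← Ideal.mem_comap, Ideal.comap_map_of_surjective _ Ideal.Quotient.mk_surjective,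
      ← RingHom.ker_eq_comap_bot, Ideal.mk_ker, sup_eq_left.mpr hQq]
  have hmemt : ∀ i, φ (MvPolynomial.X i) ∈ q := fun i => by
    rw [hφX, ← hq'q]
    show ψ ((1 : V) ⊗ₜ[R] t i) ∈ q'
    rw [hψb]
    exact hq't i
  haveI : Algebra.QuasiFiniteAt P0 qC.asIdeal := by
    refine quasiFiniteAt_of_min_max qC fun Q2 hQ2 hor => ?_
    let J := Q2.asIdeal.comap (Ideal.Quotient.mk Q)
    have hJt : ∀ i, (1 : V) ⊗ₜ[R] t i ∈ J := fun i => by
      have : MvPolynomial.X i ∈ Q2.asIdeal.comap (algebraMap P0 (C ⧸ Q)) := by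
        rw [hQ2]
        exact (hmem _).mpr (hmemt i)
      rw [← hφX]; exact this
    have hJm : J.comap (algebraMap V C) = IsLocalRing.maximalIdeal V := by
      ext v
      have e : ∀ Q3 : PrimeSpectrum (C ⧸ Q), MvPolynomial.C v ∈ Q3.asIdeal.comap (algebraMap P0 (C ⧸ Q)) ↔
          Ideal.Quotient.mk Q (algebraMap V C v) ∈ Q3.asIdeal := fun Q3 => by
        rw [← hφC]; rfl
      show Ideal.Quotient.mk Q (algebraMap V C v) ∈ Q2.asIdeal ↔ _
      rw [← e Q2, hQ2, e qC, hmem, ← Ideal.mem_comap, hqm]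
    have hJp : (J.comap (Algebra.TensorProduct.includeRight : B →ₐ[R] C).toRingHom).comap (algebraMap R B) = p := by
      ext r
      show (Algebra.TensorProduct.includeRight : B →ₐ[R] C) (algebraMap R B r) ∈ J ↔ _
      rw [AlgHom.commutes, IsScalarTower.algebraMap_apply R V C, ← Ideal.mem_comap, hJm, ← hV]
      rfl
    have hJB : Q₀.comap (toFib p) ≤ J.comap (Algebra.TensorProduct.includeRight : B →ₐ[R] C).toRingHom := by
      refine (Ideal.comap_mono hQM).trans ?_
      obtain ⟨JF, hJF, hJFc⟩ := exists_toFib_eq p (J.comap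
        (Algebra.TensorProduct.includeRight : B →ₐ[R] C).toRingHom) hJp
      haveI := hJF
      rw [← hJFc]
      refine Ideal.comap_mono ?_
      rcases hor with h | h
      · have hle : JF ≤ M := by
          refine le_of_comap_toFib p ?_
          rw [hJFc, ← hqq]
          exact Ideal.comap_mono fun x hx => (hmem x).mp (h hx)
        refine hmin.2 ⟨hJF, Ideal.span_le.mpr ?_⟩ hle
        rintro _ ⟨i, rfl⟩
        have : t i ∈ JF.comap (toFib p) := by rw [hJFc]; exact hJt i
        exact this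
      · refine le_of_comap_toFib p ?_
        rw [hJFc, ← hqq]
        exact Ideal.comap_mono fun x hx => h ((hmem x).mpr hx)
    obtain ⟨J', hJ', hJ'J⟩ := hfac J inferInstance hJm hJB
    have hJ't : ∀ i, tA i ∈ J' := fun i => by
      have : (1 : V) ⊗ₜ[R] t i ∈ J'.comap ψ.toRingHom := by rw [hJ'J]; exact hJt i
      have h2 : ψ ((1 : V) ⊗ₜ[R] t i) ∈ J' := this
      rwa [hψb] at h2
    have hback : ∀ J₁ J₂ : Ideal A', J₁.comap ψ.toRingHom ≤ J₂.comap ψ.toRingHom → J₁ ≤ J₂ := fun J₁ J₂ h z hz => by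
      obtain ⟨w, rfl⟩ := hψsurj z
      exact h hz
    have heq : J' = q' := by
      rcases hor with h | h
      · refine hminA J' hJ' hJ't (hback J' q' ?_)
        rw [hJ'J, hq'q]
        exact fun x hx => (hmem x).mp (h hx)
      · refine (hq'max.eq_of_le hJ'.ne_top (hback q' J' ?_)).symm
        rw [hJ'J, hq'q]
        exact fun x hx => h ((hmem x).mpr hx)
    refine PrimeSpectrum.ext (Ideal.comap_injective_of_surjective _ Ideal.Quotient.mk_surjective ?_)
    show J = qC.asIdeal.comap (Ideal.Quotient.mk Q)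
    rw [← hJ'J, heq, hq'q]
    exact Ideal.ext fun x => (hmem x).symm
  obtain ⟨P, hP, hPle, hPbot, hPX⟩ := exists_prime_over_origin (V := V) (n := n) (C := C ⧸ Q)
    (fun a b h => sub_eq_zero.mp (hφQ _ (by
      rw [← Ideal.Quotient.eq_zero_iff_mem, map_sub, map_sub, sub_eq_zero]; exact h))) qC.asIdeal (weaklyQuasiFiniteAt_of _ inferInstance)
    (fun i => (hmem _).mpr (hmemt i))
  haveI := hP
  refine ⟨P.comap (Ideal.Quotient.mk Q), inferInstance, fun x hx => (hmem x).mp (hPle hx), ?_, fun i => ?_⟩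
  · rw [Ideal.comap_comap]; exact hPbot
  · have h2 : Ideal.Quotient.mk Q (φ (MvPolynomial.X i)) ∈ P := hPX i
    rw [hφX] at h2
    exact h2

end Groth.Agent.SlicePt
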